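import Mathlib

/-! Arithmetic for Suzuki's classification of Zassenhaus groups with a nonabelian 2-kernel. -/

set_option autoImplicit false

namespace CfsgLib.PGroups.SuzukiZass

/-- Descent: `(x - 1)² + 1 = k y (2x - y)` has no positive solutions with `k ≥ 2`. -/
theorem descent (k : ℤ) (hk : 2 ≤ k) : ∀ (N : ℕ) (x y : ℤ), 0 < x → 0 < y → x + y = N →
    (x - 1) ^ 2 + 1 = k * y * (2 * x - y) → False := by
  intro N
  induction N using Nat.strong_induction_on with
  | _ N ih =>
  intro x y hx hy hN he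
  have hne : x ≠ y := by
    rintro rfl
    nlinarith [mul_le_mul_of_nonneg_right hk (mul_nonneg hx.le hx.le)]
  rcases lt_or_gt_of_ne hne with hlt | hgt
  · -- replace `y` by `2x - y`
    have hy' : 0 < 2 * x - y := by
      by_contra h
      push Not at h
      nlinarith [mul_nonneg (mul_nonneg (show (0 : ℤ) ≤ k by omega) hy.le)
        (show (0 : ℤ) ≤ y - 2 * x by omega), sq_nonneg (x - 1)]
    obtain ⟨M, hM⟩ := Int.eq_ofNat_of_zero_le (show (0 : ℤ) ≤ x + (2 * x - y) by omega)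
    exact ih M (by omega) x (2 * x - y) hx hy' hM (by linear_combination he)
  · -- replace `x` by `2ky + 2 - x`
    set x' := 2 * k * y + 2 - x with hx'
    have hprod : x * x' = k * y ^ 2 + 2 := by rw [hx']; linear_combination -he
    have hx'0 : 0 < x' := by
      by_contra h
      push Not at h
      nlinarith [mul_nonneg hx.le (show (0 : ℤ) ≤ -x' by omega),
        mul_nonneg (show (0 : ℤ) ≤ k by omega) (sq_nonneg y)]
    have hlt' : x' < y := by
      by_contra h
      push Not at h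
      have h1 : 0 ≤ (x - y) * (x' - y) := mul_nonneg (by omega) (by omega)
      nlinarith [mul_le_mul_of_nonneg_right hk (mul_nonneg hy.le hy.le)]
    obtain ⟨M, hM⟩ := Int.eq_ofNat_of_zero_le (show (0 : ℤ) ≤ x' + y by omega)
    exact ih M (by omega) x' y hx'0 hy hM (by rw [hx']; linear_combination he)

/-- Two divisor-sum conditions force the exponent to be odd. -/
theorem odd_exponent {m a₁ a₂ k : ℕ} (h1 : 1 ≤ a₁) (h2 : 1 ≤ a₂)
    (hsum : a₁ + a₂ = 2 * 2 ^ m + 2) (hprod : a₁ * a₂ * k = (2 ^ m) ^ 2 + 1) : Odd m := by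
  have hk1 : k = 1 := by
    rcases k with _ | _ | k
    · simp at hprod
    · rfl
    exfalso
    have hs : (a₁ : ℤ) + a₂ = 2 * 2 ^ m + 2 := by exact_mod_cast hsum
    have hp : (a₁ : ℤ) * a₂ * ((k + 1 + 1 : ℕ) : ℤ) = (2 ^ m) ^ 2 + 1 := by exact_mod_cast hprod
    have hpos : (0 : ℤ) < 2 ^ m := by positivity
    obtain ⟨N, hN⟩ := Int.eq_ofNat_of_zero_le (show (0 : ℤ) ≤ 2 ^ m + 1 + a₁ by positivity)
    refine descent ((k + 1 + 1 : ℕ) : ℤ) (by push_cast; omega) N (2 ^ m + 1) a₁ (by omega) (by omega) hN ?_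
    rw [show (2 : ℤ) * (2 ^ m + 1) - a₁ = a₂ by linarith]
    linear_combination -hp
  subst hk1
  rw [mul_one] at hprod
  have hsq : ((a₁ : ℤ) - a₂) ^ 2 = 2 ^ (m + 3) := by
    have hs : (a₁ : ℤ) + a₂ = 2 * 2 ^ m + 2 := by exact_mod_cast hsum
    have hp : (a₁ : ℤ) * a₂ = (2 ^ m) ^ 2 + 1 := by exact_mod_cast hprod
    rw [pow_add]
    linear_combination ((a₁ : ℤ) + a₂ + 2 * 2 ^ m + 2) * hs - 4 * hp
  have hsq' : ((a₁ : ℤ) - a₂).natAbs ^ 2 = 2 ^ (m + 3) := by
    have h := congrArg Int.natAbs hsq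
    simpa [Int.natAbs_pow] using h
  obtain ⟨j, -, hj⟩ := (Nat.dvd_prime_pow Nat.prime_two).mp
    (⟨((a₁ : ℤ) - a₂).natAbs, by rw [← hsq', pow_two]⟩ : ((a₁ : ℤ) - a₂).natAbs ∣ 2 ^ (m + 3))
  rw [hj, ← pow_mul] at hsq'
  have := Nat.pow_right_injective (le_refl 2) hsq'
  rw [Nat.odd_iff]
  omega

/-- The final divisibility argument for a kernel of order `q³`. -/
theorem cube_false {q e a D k : ℤ} (hq : 4 ≤ q) (hqe : Even q) (he : e ^ 2 ≤ q) (heodd : Odd e)
    (ha : 0 ≤ a) (hD : D = a * (q ^ 2 + q + 1) - q * e) (hDodd : Odd D)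
    (hk : k * D = q ^ 3 + 1) (hD0 : 0 < D) : False := by
  obtain ⟨r, rfl⟩ := hqe
  have haodd : Odd a := by
    rcases Int.even_or_odd a with ⟨s, hs⟩ | h
    · exfalso
      obtain ⟨u, hu⟩ := hDodd
      rw [hD, hs] at hu
      have : 2 * (s * ((r + r) ^ 2 + (r + r) + 1) - r * e - u) = 1 := by linear_combination hu
      omega
    · exact h
  have ha1 : 1 ≤ a := by obtain ⟨s, hs⟩ := haodd; omega
  set q := r + r with hqdef
  have hk0 : 0 < k := by
    by_contra h
    push Not at h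
    nlinarith [mul_nonpos_of_nonpos_of_nonneg h hD0.le, mul_pos (mul_pos (show (0:ℤ) < q by omega)
      (show (0:ℤ) < q by omega)) (show (0:ℤ) < q by omega)]
  have hbe : 2 * e ≤ q ∧ -q ≤ 2 * e := by
    constructor <;> by_contra h <;> push Not at h <;>
      nlinarith [mul_le_mul_of_nonneg_right hq (show (0:ℤ) ≤ q by omega)]
  have hmod : q ∣ k * a - 1 :=
    ⟨q ^ 2 - k * a * q - k * a + k * e, by rw [hD] at hk; linear_combination hk⟩
  obtain ⟨j, hj⟩ := hmod
  have hj0 : 0 ≤ j := by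
    by_contra h
    push Not at h
    nlinarith [mul_pos hk0 (show (0:ℤ) < a by omega), mul_le_mul_of_nonneg_left (show j ≤ -1 by omega)
      (show (0:ℤ) ≤ q by omega)]
  rcases (show j = 0 ∨ j = 1 ∨ 2 ≤ j by omega) with rfl | rfl | hj2
  · have h1 : k * a = 1 := by omega
    have hk1 : k = 1 := Int.eq_one_of_mul_eq_one_right hk0.le h1
    have ha1' : a = 1 := by rw [hk1, one_mul] at h1; exact h1
    rw [hk1, one_mul] at hk
    rw [hD, ha1', one_mul] at hk
    nlinarith [mul_le_mul_of_nonneg_left hbe.2 (show (0:ℤ) ≤ q by omega)]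
  · have h1 : k * a = q + 1 := by linarith
    have h2 : q * (k * e - 2 * (q + 1)) = 0 := by
      rw [hD] at hk; linear_combination -hk + (q ^ 2 + q + 1) * h1
    have h3 : k * e = 2 * (q + 1) := by
      rcases mul_eq_zero.mp h2 with h | h
      · omega
      · linarith
    have h4 : k * (e - 2 * a) = 0 := by linear_combination h3 - 2 * h1
    have h5 : e = 2 * a := by
      rcases mul_eq_zero.mp h4 with h | h <;> linarith
    obtain ⟨s, hs⟩ := heodd
    omega
  · have h1 : 2 * q + 1 ≤ k * a := by nlinarith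
    have h2 : (2 * q + 1) * (q ^ 2 + 2 * q + 2) ≤ 2 * (k * D) := by
      have hka : 0 ≤ k * a := by positivity
      rcases le_total 0 e with he0 | he0
      · have hD2 : a * (q ^ 2 + 2 * q + 2) ≤ 2 * D := by
          rw [hD]
          nlinarith [mul_nonneg (mul_nonneg (show (0:ℤ) ≤ q by omega) he0) (show (0:ℤ) ≤ a - 1 by omega),
            mul_le_mul_of_nonneg_left hbe.1 (mul_nonneg (show (0:ℤ) ≤ a by omega) (show (0:ℤ) ≤ q by omega))]
        calc (2 * q + 1) * (q ^ 2 + 2 * q + 2) ≤ k * a * (q ^ 2 + 2 * q + 2) :=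
              mul_le_mul_of_nonneg_right h1 (by positivity)
          _ = k * (a * (q ^ 2 + 2 * q + 2)) := by ring
          _ ≤ k * (2 * D) := mul_le_mul_of_nonneg_left hD2 hk0.le
          _ = 2 * (k * D) := by ring
      · have hD2 : a * (q ^ 2 + 2 * q + 2) ≤ 2 * D := by
          rw [hD]
          nlinarith [mul_nonneg (show (0:ℤ) ≤ q by omega) (show (0:ℤ) ≤ -e by omega),
            mul_nonneg (show (0:ℤ) ≤ a by omega) (sq_nonneg q)]
        calc (2 * q + 1) * (q ^ 2 + 2 * q + 2) ≤ k * a * (q ^ 2 + 2 * q + 2) :=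
              mul_le_mul_of_nonneg_right h1 (by positivity)
          _ = k * (a * (q ^ 2 + 2 * q + 2)) := by ring
          _ ≤ k * (2 * D) := mul_le_mul_of_nonneg_left hD2 hk0.le
          _ = 2 * (k * D) := by ring
    rw [hk] at h2
    nlinarith

end CfsgLib.PGroups.SuzukiZass
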