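import Mathlib
import Cfsg.Agent.Lib.Perm.ZassenhausKernelBound
import Cfsg.Agent.Lib.Perm.ZassenhausSimpleTorus
import Cfsg.Agent.Lib.PGroups.Suzuki.Basic
import Cfsg.Agent.Lib.PGroups.Suzuki.TypeA

/-! A simple Zassenhaus group with a nonabelian 2-group as point kernel: the kernel is a Suzuki
2-group whose involutions are permuted regularly by the two-point stabiliser. -/

set_option autoImplicit false
set_option linter.all false

open Cfsg
open CfsgLib.Char.Exceptional

namespace CfsgLib.PGroups.SuzukiZass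

universe u

variable {G : Type u} {Ω : Type*} [Group G] [Finite G] [MulAction G Ω] [Fintype Ω]

/-- The standing hypotheses together with the first consequences. -/
structure Kern (H : Subgroup G) (a b : Ω) (m : ℕ) : Prop where
  zass : IsZassenhausGroup G Ω
  ne : a ≠ b
  le : H ≤ MulAction.stabilizer G a
  card : Nat.card H + 1 = Fintype.card Ω
  fix : ∀ u ∈ H, u ≠ 1 → ∀ c : Ω, u • c = c → c = a
  isP : IsPGroup 2 H
  two_le : 2 ≤ m
  card_two_stab : Nat.card ↥(MulAction.stabilizer G a ⊓ MulAction.stabilizer G b : Subgroup G) + 1 = 2 ^ m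
  card_cases : Nat.card H = (2 ^ m) ^ 2 ∨ Nat.card H = (2 ^ m) ^ 3
  card_involutions : Nat.card {u : G // u ∈ H ∧ orderOf u = 2} + 1 = 2 ^ m
  inv_central : ∀ u ∈ H, u * u = 1 → ∀ v ∈ H, u * v = v * u
  sq_inv : ∀ u ∈ H, (u * u) * (u * u) = 1
  suzuki : Cfsg.IsSuzukiTwoGroup H
  center_card : Nat.card (Subgroup.center H) = 2 ^ m
  comm_index : ⁅H, H⁆.relIndex H * 2 ^ m = Nat.card H
  sq_inj : Nat.card H = (2 ^ m) ^ 2 → ∀ u ∈ H, ∀ v ∈ H, u * u = v * v → (v⁻¹ * u) * (v⁻¹ * u) = 1

section

variable {H : Subgroup G} {a b : Ω} {m : ℕ}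

theorem Kern.four_le (K : Kern H a b m) : 4 ≤ 2 ^ m :=
  le_trans (by norm_num) (Nat.pow_le_pow_right two_pos K.two_le)

theorem Kern.odd (K : Kern H a b m) :
    Odd (Nat.card ↥(MulAction.stabilizer G a ⊓ MulAction.stabilizer G b : Subgroup G)) := by
  obtain ⟨j, hj⟩ : Even (2 ^ m) := Nat.even_pow.2 ⟨even_two, by have := K.two_le; omega⟩
  have := K.card_two_stab
  exact ⟨j - 1, by omega⟩

theorem Kern.centralizer_le (K : Kern H a b m) {u : G} (hu : u ∈ H) (hu1 : u ≠ 1) :
    Subgroup.centralizer ({u} : Set G) ≤ H := by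
  intro c hc
  have hc' : c * u = u * c := Subgroup.mem_centralizer_singleton_iff.1 hc
  have hua : u • a = a := K.le hu
  have hca : c • a = a := K.fix u hu hu1 _ (by rw [← mul_smul, ← hc', mul_smul, hua])
  by_cases hc0 : c = 1
  · rw [hc0]; exact H.one_mem
  refine zass_mem_kernel K.zass K.le K.card K.fix hca fun p hp => ?_
  by_contra hpa
  have hfix : c • (u • p) = u • p := by rw [← mul_smul, hc', mul_smul, hp]
  rcases zass_fix_two K.zass hc0 (Ne.symm hpa) hca hp hfix with h1 | h1
  · exact hpa (MulAction.injective u (h1.trans hua.symm))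
  · exact hpa (K.fix u hu hu1 p h1)

theorem Kern.normalizer_eq (K : Kern H a b m) :
    Subgroup.normalizer (H : Set G) = MulAction.stabilizer G a :=
  zass_kernel_normalizer K.zass K.le K.card K.fix

theorem Kern.card_eq (K : Kern H a b m) :
    Nat.card G = (Nat.card H + 1) * (Nat.card H *
      Nat.card ↥(MulAction.stabilizer G a ⊓ MulAction.stabilizer G b : Subgroup G)) := by
  rw [zass_card K.zass K.ne, ← K.card, Nat.add_sub_cancel]

theorem Kern.card_even (K : Kern H a b m) : Even (Nat.card H) := by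
  have h : Even (2 ^ m) := Nat.even_pow.2 ⟨even_two, by have := K.two_le; omega⟩
  rcases K.card_cases with h' | h' <;> rw [h'] <;> exact Nat.even_pow.2 ⟨h, by norm_num⟩

theorem Kern.odd_degree (K : Kern H a b m) : Fintype.card Ω % 2 = 1 := by
  obtain ⟨j, hj⟩ := K.card_even
  have := K.card
  omega

end

variable [IsSimpleGroup G]

theorem exists_kern (hZ : IsZassenhausGroup G Ω) {a b : Ω} (hab : a ≠ b)
    (hodd : Odd (Nat.card ↥(MulAction.stabilizer G a ⊓ MulAction.stabilizer G b : Subgroup G)))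
    {H : Subgroup G} (hHa : H ≤ MulAction.stabilizer G a) (hHcard : Nat.card H + 1 = Fintype.card Ω)
    (hHfix : ∀ u ∈ H, u ≠ 1 → ∀ c : Ω, u • c = c → c = a) (h2 : IsPGroup 2 H)
    (hna : ∃ u v : H, u * v ≠ v * u) : ∃ m, Kern H a b m := by
  classical
  haveI := Fact.mk Nat.prime_two
  haveI := Fintype.ofFinite G
  haveI := zass_trans hZ
  set E := (MulAction.stabilizer G a ⊓ MulAction.stabilizer G b : Subgroup G) with hE
  have hnorm := zass_kernel_normalizer hZ hHa hHcard hHfix
  have heven : Even (Nat.card H) := by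
    obtain ⟨u, v, huv⟩ := hna
    haveI : Nontrivial H := ⟨⟨u, 1, fun h => huv (by rw [h, one_mul, mul_one])⟩⟩
    obtain ⟨j, hj, hj'⟩ := h2.nontrivial_iff_card.1 inferInstance
    rw [hj']
    exact Nat.even_pow.2 ⟨even_two, hj.ne'⟩
  have hn2 : Fintype.card Ω % 2 = 1 := by obtain ⟨j, hj⟩ := heven; omega
  have hcent : ∀ u ∈ H, u ≠ 1 → Subgroup.centralizer ({u} : Set G) ≤ H := by
    intro u hu hu1 c hc
    have hc' : c * u = u * c := Subgroup.mem_centralizer_singleton_iff.1 hc
    have hua : u • a = a := hHa hu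
    have hca : c • a = a := hHfix u hu hu1 _ (by rw [← mul_smul, ← hc', mul_smul, hua])
    by_cases hc0 : c = 1
    · rw [hc0]; exact H.one_mem
    refine zass_mem_kernel hZ hHa hHcard hHfix hca fun p hp => ?_
    by_contra hpa
    have hfix : c • (u • p) = u • p := by rw [← mul_smul, hc', mul_smul, hp]
    rcases zass_fix_two hZ hc0 (Ne.symm hpa) hca hp hfix with h1 | h1
    · exact hpa (MulAction.injective u (h1.trans hua.symm))
    · exact hpa (hHfix u hu hu1 p h1)
  -- the involutions of the kernel are those fixing `a`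
  have hfixmem : ∀ x : G, orderOf x = 2 → x • a = a → x ∈ H := fun x hx hxa =>
    zass_mem_kernel hZ hHa hHcard hHfix hxa fun c hc =>
      zass_involution_fix_le hZ hab hodd hx hc hxa
  set I := Finset.univ.filter fun x : G => orderOf x = 2 with hI
  set I₀ := I.filter fun x => x • a = a with hI₀
  have hper : ∀ c : Ω, (I.filter fun x => x • c = c).card = I₀.card := by
    intro c
    obtain ⟨g, hg⟩ := MulAction.exists_smul_eq G a c
    refine Finset.card_bij' (fun x _ => g⁻¹ * x * g) (fun x _ => g * x * g⁻¹) ?_ ?_ ?_ ?_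
    · intro x hx
      simp only [hI₀, hI, Finset.mem_filter, Finset.mem_univ, true_and] at hx ⊢
      refine ⟨?_, ?_⟩
      · rw [show g⁻¹ * x * g = g⁻¹ * x * g⁻¹⁻¹ by rw [inv_inv], orderOf_conj_eq]; exact hx.1
      · rw [mul_smul, mul_smul, hg, hx.2, ← hg, inv_smul_smul]
    · intro x hx
      simp only [hI₀, hI, Finset.mem_filter, Finset.mem_univ, true_and] at hx ⊢
      refine ⟨by rw [orderOf_conj_eq]; exact hx.1, ?_⟩
      rw [mul_smul, mul_smul, ← hg, inv_smul_smul, hx.2]
    · intro x _; group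
    · intro x _; group
  have hsum : I.card = Fintype.card Ω * I₀.card := by
    have h1 : ∑ x ∈ I, (Finset.univ.filter fun c : Ω => x • c = c).card = I.card := by
      rw [Finset.sum_congr rfl fun x hx => by
        rw [zass_involution_fix_card hZ hab hodd (Finset.mem_filter.1 hx).2, hn2]]
      simp
    rw [← h1]
    simp only [Finset.card_filter]
    rw [Finset.sum_comm]
    simp only [← Finset.card_filter, hper, Finset.sum_const, Finset.card_univ, smul_eq_mul]
  have hI₀card : I₀.card = Nat.card E := by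
    have h := zass_involution_count hZ hab hodd
    rw [← hI, hsum, hn2, ← hE] at h
    have h3 := zass_three_le hZ
    rw [mul_assoc, mul_assoc, mul_comm (Fintype.card Ω - 1) (Nat.card E)] at h
    exact Nat.eq_of_mul_eq_mul_right (by omega) (Nat.eq_of_mul_eq_mul_left (by omega) h)
  have hI₀H : ∀ u : G, (u ∈ H ∧ orderOf u = 2) ↔ u ∈ I₀ := fun u => by
    simp only [hI₀, hI, Finset.mem_filter, Finset.mem_univ, true_and]
    exact ⟨fun h => ⟨h.2, hHa h.1⟩, fun h => ⟨hfixmem u h.1 h.2, h.1⟩⟩
  have hinvcard : Nat.card {u : G // u ∈ H ∧ orderOf u = 2} = Nat.card E := by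
    rw [Nat.card_congr (Equiv.subtypeEquivRight hI₀H), Nat.card_eq_fintype_card, Fintype.card_coe, hI₀card]
  have hE3 : 3 ≤ Nat.card E := by
    obtain ⟨x, hx1, hxa, hxb⟩ := zass_two_stab_ne_bot hZ hab
    haveI : Nontrivial E := ⟨⟨⟨x, hxa, hxb⟩, 1, fun h => hx1 (congrArg Subtype.val h)⟩⟩
    have := Finite.one_lt_card (α := E)
    obtain ⟨j, hj⟩ := hodd
    omega
  have hmemI : ∀ x : H, x ≠ 1 → x * x = 1 → (x : G) ∈ H ∧ orderOf (x : G) = 2 := fun x hx hxx =>
    ⟨x.2, orderOf_eq_prime (by rw [pow_two]; exact congrArg Subtype.val hxx)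
      fun h => hx (Subtype.ext h)⟩
  -- the two-point stabiliser acting on the kernel
  have hconj : ∀ (y : E) (x : G), x ∈ H → (y : G) * x * (y : G)⁻¹ ∈ H := fun y x hx =>
    (Subgroup.mem_set_normalizer_iff.1 (hnorm.ge y.2.1) x).1 hx
  let act : E →* MulAut H :=
    { toFun := fun y =>
        { toFun := fun x => ⟨(y : G) * x * (y : G)⁻¹, hconj y x x.2⟩
          invFun := fun x => ⟨((y⁻¹ : E) : G) * x * ((y⁻¹ : E) : G)⁻¹, hconj _ x x.2⟩
          left_inv := fun x => Subtype.ext (by simp [mul_assoc])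
          right_inv := fun x => Subtype.ext (by simp [mul_assoc])
          map_mul' := fun x x' => Subtype.ext (by
            show (y : G) * ((x : G) * x') * (y : G)⁻¹ = (y : G) * x * (y : G)⁻¹ * ((y : G) * x' * (y : G)⁻¹)
            group) }
      map_one' := MulEquiv.ext fun x => Subtype.ext (by
        show ((1 : E) : G) * (x : G) * ((1 : E) : G)⁻¹ = x
        simp)
      map_mul' := fun y z => MulEquiv.ext fun x => Subtype.ext (by
        show ((y * z : E) : G) * (x : G) * ((y * z : E) : G)⁻¹ =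
          (y : G) * ((z : G) * (x : G) * (z : G)⁻¹) * (y : G)⁻¹
        rw [Subgroup.coe_mul]; group) }
  have hfree : ∀ y z : E, ∀ x : H, x ≠ 1 → act y x = act z x → y = z := by
    intro y z x hx h
    have h' : (y : G) * x * (y : G)⁻¹ = (z : G) * x * (z : G)⁻¹ := congrArg Subtype.val h
    have hc : (z : G)⁻¹ * y ∈ H := hcent x x.2 (fun e => hx (Subtype.ext e))
      (Subgroup.mem_centralizer_singleton_iff.2 (by
        calc (z : G)⁻¹ * y * x = (z : G)⁻¹ * ((y : G) * x * (y : G)⁻¹) * y := by group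
          _ = x * ((z : G)⁻¹ * y) := by rw [h']; group))
    by_contra hne
    have hne' : (z : G)⁻¹ * y ≠ 1 := fun e => hne (Subtype.ext (inv_mul_eq_one.1 e).symm)
    exact hab (hHfix _ hc hne' b (mul_mem (inv_mem z.2) y.2).2).symm
  have hsz : Cfsg.IsSuzukiTwoGroup H := by
    obtain ⟨u, v, huv⟩ := hna
    refine ⟨inferInstance, h2, ⟨u, v, huv⟩, ?_, act.range, ?_, ?_⟩
    · obtain ⟨x, hx, y, hy, hxy⟩ := Finset.one_lt_card.1 (show 1 < I₀.card by omega)
      obtain ⟨hxH, hx2⟩ := (hI₀H x).2 hx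
      obtain ⟨hyH, hy2⟩ := (hI₀H y).2 hy
      refine ⟨⟨x, hxH⟩, ⟨y, hyH⟩, fun h => hxy (congrArg Subtype.val h), fun h => ?_, Subtype.ext ?_,
        fun h => ?_, Subtype.ext ?_⟩
      · rw [show x = 1 from congrArg Subtype.val h, orderOf_one] at hx2; omega
      · show x * x = 1
        rw [← pow_two, ← hx2, pow_orderOf_eq_one]
      · rw [show y = 1 from congrArg Subtype.val h, orderOf_one] at hy2; omega
      · show y * y = 1
        rw [← pow_two, ← hy2, pow_orderOf_eq_one]
    · haveI : IsCyclic E := (CfsgLib.Perm.zass_simple_torus hZ hab).1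
      exact isCyclic_of_surjective act.rangeRestrict act.rangeRestrict_surjective
    · intro x y hx hxx hy hyy
      let f : E → {w : G // w ∈ H ∧ orderOf w = 2} := fun z =>
        ⟨(act z x : H), hmemI _ (fun e => hx ((MulEquiv.map_eq_one_iff _).1 e))
          (by rw [← map_mul, hxx, map_one])⟩
      have hf : Function.Injective f := fun z z' h =>
        hfree z z' x hx (Subtype.ext (congrArg (fun w : {w : G // w ∈ H ∧ orderOf w = 2} => (w : G)) h))
      obtain ⟨z, hz⟩ := (hf.bijective_of_nat_card_le hinvcard.le).2 ⟨y, hmemI y hy hyy⟩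
      have hz' : act z x = y := Subtype.ext (congrArg (fun w : {w : G // w ∈ H ∧ orderOf w = 2} => (w : G)) hz)
      refine ⟨⟨act z, z, rfl⟩, hz', ?_⟩
      rintro ⟨k, z', rfl⟩ hk
      exact Subtype.ext (congrArg act (hfree z' z x hx (hk.trans hz'.symm)))
  obtain ⟨m, D, hna'⟩ := CfsgLib.PGroups.Suzuki.exists_data hsz
  have hcenter := CfsgLib.PGroups.Suzuki.center_eq D hna'
  have hsq := CfsgLib.PGroups.Suzuki.higman D hna'
  have hm : Nat.card {u : G // u ∈ H ∧ orderOf u = 2} + 1 = 2 ^ m := by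
    rw [← D.card_inv]
    have e1 : Nat.card {u : G // u ∈ H ∧ orderOf u = 2} = Nat.card {x : H // x ^ 2 = 1 ∧ x ≠ 1} := by
      refine Nat.card_congr
        { toFun := fun u => ⟨⟨u.1, u.2.1⟩, Subtype.ext (by
              show u.1 ^ 2 = 1
              exact orderOf_dvd_iff_pow_eq_one.1 (dvd_of_eq u.2.2)),
            fun h => by
              have h' : u.1 = 1 := congrArg Subtype.val h
              have := u.2.2
              rw [h', orderOf_one] at this; omega⟩
          invFun := fun x => ⟨x.1.1, hmemI x.1 x.2.2 (by rw [← pow_two]; exact x.2.1)⟩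
          left_inv := fun u => rfl
          right_inv := fun x => rfl }
    rw [e1, Nat.card_eq_fintype_card, Nat.card_eq_fintype_card, Fintype.card_subtype,
      Fintype.card_subtype, show (Finset.univ.filter fun x : H => x ^ 2 = 1 ∧ x ≠ 1) =
        (Finset.univ.filter fun x : H => x ^ 2 = 1).erase 1 by ext x; simp [and_comm],
      Finset.card_erase_add_one (by simp)]
  -- the commutator subgroup
  haveI := D.ω_normal
  have hle : commutator H ≤ D.ω := by
    refine Subgroup.Normal.quotient_commutative_iff_commutator_le.1 ⟨⟨fun x y => ?_⟩⟩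
    have h1 : ∀ z : H ⧸ D.ω, z⁻¹ = z := by
      intro z
      obtain ⟨z, rfl⟩ := QuotientGroup.mk_surjective z
      refine inv_eq_of_mul_eq_one_right ?_
      rw [← QuotientGroup.mk_mul, QuotientGroup.eq_one_iff, ← pow_two]
      exact hsq z
    calc x * y = (x * y)⁻¹ := (h1 _).symm
      _ = y⁻¹ * x⁻¹ := mul_inv_rev x y
      _ = y * x := by rw [h1, h1]
  have hcomm : commutator H = D.ω := by
    refine le_antisymm hle (D.ω_le (D.char_inv _) fun h => hna' ?_)
    exact (commutator_eq_bot_iff (G := H)).1 h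
  have hopt := CfsgLib.PGroups.Suzuki.card_options D hna'
  refine ⟨m, hZ, hab, hHa, hHcard, hHfix, h2, D.two_le, ?_, hopt, hm, ?_, ?_, hsz, ?_, ?_, ?_⟩
  · rw [← hinvcard]; exact hm
  · intro u hu huu v hv
    exact (congrArg Subtype.val (Subgroup.mem_center_iff.1
      (D.central ⟨u, hu⟩ (by rw [pow_two]; exact Subtype.ext huu)) ⟨v, hv⟩)).symm
  · intro u hu
    have h := hsq ⟨u, hu⟩
    rw [CfsgLib.PGroups.Suzuki.Data.mem_ω, pow_two, pow_two] at h
    exact congrArg Subtype.val h
  · rw [hcenter]; exact D.card_ω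
  · have hc : (commutator H).map H.subtype = ⁅H, H⁆ := by
      rw [_root_.commutator_def, Subgroup.map_commutator, ← MonoidHom.range_eq_map,
        Subgroup.range_subtype]
    rw [← hc, Subgroup.relIndex, Subgroup.subgroupOf,
      Subgroup.comap_map_eq_self_of_injective H.subtype_injective, hcomm, ← D.card_ω]
    exact Subgroup.index_mul_card _
  · intro hH2 u hu v hv huv
    have hidx : D.ω.index = 2 ^ m := by
      have h := D.ω.index_mul_card
      rw [D.card_ω, hH2, pow_two] at h
      exact Nat.eq_of_mul_eq_mul_right (by positivity) h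
    have hwd : ∀ x y : H, x⁻¹ * y ∈ D.ω → (⟨x ^ 2, hsq x⟩ : D.ω) = ⟨y ^ 2, hsq y⟩ := by
      intro x y hxy
      refine Subtype.ext ?_
      show x ^ 2 = y ^ 2
      obtain ⟨z, hz, rfl⟩ : ∃ z ∈ D.ω, y = x * z := ⟨x⁻¹ * y, hxy, (mul_inv_cancel_left x y).symm⟩
      rw [(show Commute x z from Subgroup.mem_center_iff.1 (D.ω_le_center hz) x).mul_pow,
        (CfsgLib.PGroups.Suzuki.Data.mem_ω D).1 hz, mul_one]
    let sqm : H ⧸ D.ω → D.ω := Quotient.lift (fun x => (⟨x ^ 2, hsq x⟩ : D.ω))
      (fun x y h => hwd x y (QuotientGroup.leftRel_apply.1 h))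
    have hsurj : Function.Surjective sqm := by
      obtain ⟨w, hw⟩ : ∃ w : H, w ^ 2 ≠ 1 := by
        by_contra hall
        push Not at hall
        have htop : D.ω = ⊤ := eq_top_iff.2 fun x _ => (CfsgLib.PGroups.Suzuki.Data.mem_ω D).2 (hall x)
        have h4 := D.four_le
        have := D.card_ω
        rw [htop, Subgroup.card_top, hH2] at this
        nlinarith
      rintro ⟨z, hz⟩
      obtain ⟨c, -, hc⟩ := D.exists_sq D.top_inv (Subgroup.mem_top w) hw
        ((CfsgLib.PGroups.Suzuki.Data.mem_ω D).1 (hsq w)) hz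
      exact ⟨QuotientGroup.mk c, Subtype.ext hc⟩
    have hinj := (hsurj.bijective_of_nat_card_le (by
      rw [← Subgroup.index_eq_card, hidx, D.card_ω])).1
    have heq : sqm (QuotientGroup.mk ⟨v, hv⟩) = sqm (QuotientGroup.mk ⟨u, hu⟩) :=
      Subtype.ext (Subtype.ext (by
        show v ^ 2 = u ^ 2
        rw [pow_two, pow_two, huv]))
    have h := (CfsgLib.PGroups.Suzuki.Data.mem_ω D).1 (QuotientGroup.eq.1 (hinj heq))
    rw [pow_two] at h
    exact congrArg Subtype.val h

end CfsgLib.PGroups.SuzukiZass
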