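import Mathlib
import Cfsg.Agent.Lib.PGroups.SuzukiZass.Setting
import Cfsg.Agent.Lib.Perm.ZassenhausKernelBound

/-! Irreducible characters not orthogonal to the trivial character of the kernel are constant on the
nonidentity elements of the kernel. -/

set_option autoImplicit false
set_option linter.all false

open Cfsg
open scoped ComplexConjugate

namespace CfsgLib.PGroups.SuzukiZass

open CfsgLib.Char CfsgLib.Char.Exceptional CfsgLib.Perm

universe u

variable {G : Type u} {Ω : Type*} [Group G] [Fintype G] [MulAction G Ω] [Fintype Ω] [IsSimpleGroup G]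
variable {H : Subgroup G} {a b : Ω} {m : ℕ}

set_option maxHeartbeats 1000000 in
theorem Kern.const_of_sum_ne (K : Kern H a b m) [Fintype H] {θ : G → ℂ}
    (hθ : Cfsg.IsIrrCharacter G θ) (hS : ∑ u : H, θ u ≠ 0) :
    ∀ u ∈ H, u ≠ 1 → ∀ v ∈ H, v ≠ 1 → θ u = θ v := by
  classical
  have hZ := K.zass
  have hab := K.ne
  have hHa := K.le
  have hHcard := K.card
  have hHfix := K.fix
  have hodd := K.odd
  haveI := zass_trans hZ
  haveI := Fintype.ofFinite (Cfsg.IrrCharacter G)
  set N := MulAction.stabilizer G a with hN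
  set E := (MulAction.stabilizer G a ⊓ MulAction.stabilizer G b : Subgroup G) with hE
  have hnorm : Subgroup.normalizer (H : Set G) = N := zass_kernel_normalizer hZ hHa hHcard hHfix
  have hEN : E ≤ N := inf_le_left
  have h3 := zass_three_le hZ
  set h := Nat.card H with hh
  set e := Nat.card E with he
  have hh0 : (h : ℂ) ≠ 0 := Nat.cast_ne_zero.2 Nat.card_pos.ne'
  have he0 : (e : ℂ) ≠ 0 := Nat.cast_ne_zero.2 Nat.card_pos.ne'
  have hdisj : ∀ u ∈ H, u • b = b → u = 1 := fun u hu h => by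
    by_contra hu1
    exact hab (hHfix u hu hu1 b h).symm
  have hNc : Nat.card N = h * e := by
    rw [zass_card_stab hZ hab, show Fintype.card Ω - 1 = h by omega]
  obtain ⟨w, hwa, hwb⟩ := zass_pre hZ hab hab.symm
  have hinv := zass_two_stab_inverted hZ hab hodd hwa hwb
  haveI hEcomm : IsMulCommutative E := ⟨⟨fun x y => Subtype.ext (by
    have h1 := hinv _ (mul_mem x.2 y.2)
    rw [show w⁻¹ * ((x : G) * y) * w = (w⁻¹ * x * w) * (w⁻¹ * y * w) by group, hinv _ x.2, hinv _ y.2,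
      ← mul_inv_rev, inv_inj] at h1
    exact h1.symm)⟩⟩
  let _ : CommGroup E := { mul_comm := hEcomm.is_comm.comm }
  let H' := H.subgroupOf N
  haveI : H'.Normal := (Subgroup.normal_subgroupOf_iff_le_normalizer hHa).2 hnorm.ge
  let ι : E →* N ⧸ H' := (QuotientGroup.mk' H').comp (Subgroup.inclusion hEN)
  have hinj : Function.Injective ι := by
    rw [← MonoidHom.ker_eq_bot_iff, Subgroup.eq_bot_iff_forall]
    intro x hx
    have hxH : (x : G) ∈ H := (QuotientGroup.eq_one_iff (N := H') (Subgroup.inclusion hEN x)).1 hx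
    exact Subtype.ext (hdisj _ hxH x.2.2)
  have hidx : H'.index = e := by
    have h1 := H'.index_mul_card
    rw [show Nat.card H' = h from Nat.card_congr (Subgroup.subgroupOfEquivOfLe hHa).toEquiv, hNc,
      mul_comm] at h1
    exact Nat.eq_of_mul_eq_mul_left Nat.card_pos h1
  have hbij : Function.Bijective ι :=
    hinj.bijective_of_nat_card_le (by rw [← Subgroup.index_eq_card, hidx])
  let pr : N →* E := (MulEquiv.ofBijective ι hbij).symm.toMonoidHom.comp (QuotientGroup.mk' H')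
  have hpr1 : ∀ x : N, pr x = 1 ↔ (x : G) ∈ H := fun x => by
    show (MulEquiv.ofBijective ι hbij).symm _ = 1 ↔ _
    rw [MulEquiv.map_eq_one_iff]
    exact QuotientGroup.eq_one_iff (N := H') x
  have hprsurj : Function.Surjective pr := fun y =>
    ⟨Subgroup.inclusion hEN y, (MulEquiv.ofBijective ι hbij).symm_apply_apply y⟩
  have hψcard : Nat.card (E →* ℂˣ) = e := CommGroup.card_monoidHom_of_hasEnoughRootsOfUnity E ℂ
  haveI : Finite (E →* ℂˣ) := Nat.finite_of_card_ne_zero (by rw [hψcard]; exact Nat.card_pos.ne')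
  haveI := Fintype.ofFinite (E →* ℂˣ)
  have horth : ∀ y : E, ∑ ψ : E →* ℂˣ, (ψ y : ℂ) = if y = 1 then (e : ℂ) else 0 := by
    intro y
    split
    · next hy => simp [hy, ← hψcard, Nat.card_eq_fintype_card]
    · next hy =>
      obtain ⟨φ, hφ⟩ := CommGroup.exists_apply_ne_one_of_hasEnoughRootsOfUnity E ℂ hy
      have h1 : ((φ y : ℂ) - 1) * ∑ ψ : E →* ℂˣ, (ψ y : ℂ) = 0 := by
        rw [sub_mul, one_mul, Finset.mul_sum, sub_eq_zero]
        exact Fintype.sum_equiv (Equiv.mulLeft φ) _ _ fun ψ => by simp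
      exact (mul_eq_zero.1 h1).resolve_left (sub_ne_zero.2 fun h1 => hφ (Units.ext h1))
  let l : (E →* ℂˣ) → (N →* ℂˣ) := fun ψ => ψ.comp pr
  have hlH : ∀ ψ, ∀ u : N, (u : G) ∈ H → l ψ u = 1 := fun ψ u hu => by
    simp only [l, MonoidHom.comp_apply, (hpr1 u).2 hu, map_one]
  have hl1 : ∀ ψ, ψ ≠ 1 → l ψ ≠ 1 := fun ψ hψ h1 => hψ (MonoidHom.ext fun y => by
    obtain ⟨x, rfl⟩ := hprsurj y
    exact DFunLike.congr_fun h1 x)
  let μ : (E →* ℂˣ) → ↥N → ℂ := fun ψ x => (l ψ x : ℂ)
  let I : (E →* ℂˣ) → G → ℂ := fun ψ => Cfsg.indFun N (μ ψ)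
  have hμ : ∀ ψ, Cfsg.IsCharacter N (μ ψ) := fun ψ => IsIrr.isCharacter (isIrrCharacter_linear (l ψ))
  have hI1 : ∀ ψ, I ψ 1 = (h : ℂ) + 1 := fun ψ => by
    simp only [I]
    rw [indFun_apply_one, MulAction.index_stabilizer_of_transitive, Nat.card_eq_fintype_card, ← hHcard]
    simp [μ]
  have hIu : ∀ ψ, ∀ u ∈ H, u ≠ 1 → I ψ u = 1 := fun ψ u hu hu1 => by
    simp only [I]
    rw [zass_ind_kernel hHa hHfix (IsChar.isClassFunction (hμ ψ)) hu hu1]
    simp [μ, hlH ψ ⟨u, hHa hu⟩ hu]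
  have hkey : ∀ θ : G → ℂ, Cfsg.IsClassFunction G θ →
      ∑ ψ : E →* ℂˣ, Cfsg.classInner (I ψ) θ = (h : ℂ)⁻¹ * conj (∑ u : H, θ u) := by
    intro θ hθ
    rw [Finset.sum_congr rfl (fun ψ _ => frobenius_reciprocity N (μ ψ) hθ)]
    simp only [Cfsg.classInner, ← Finset.mul_sum]
    rw [Finset.sum_comm]
    simp only [← Finset.sum_mul, μ, l, MonoidHom.comp_apply, horth, hpr1, hNc, ite_mul, zero_mul]
    rw [← Finset.sum_filter, ← Finset.mul_sum, map_sum, Nat.cast_mul, mul_inv, mul_assoc,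
      inv_mul_cancel_left₀ he0]
    congr 1
    exact (Finset.sum_bij (fun (u : H) _ => (⟨u, hHa u.2⟩ : N))
      (fun u _ => Finset.mem_filter.2 ⟨Finset.mem_univ _, u.2⟩)
      (fun u _ v _ h => Subtype.ext (congrArg (fun x : N => (x : G)) h))
      (fun x hx => ⟨⟨x, (Finset.mem_filter.1 hx).2⟩, Finset.mem_univ _, rfl⟩) fun u _ => rfl).symm
  have hI1one : ∀ x : N, μ 1 x = 1 := fun x => by simp [μ, l]
  have hpi1 : Cfsg.classInner (I 1) (fun _ => 1) = 1 := by
    simp only [I]
    rw [frobenius_reciprocity N _ (fun _ _ => rfl), show μ 1 = fun _ => (1 : ℂ) from funext hI1one]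
    exact classInner_irr_self (trivChar N)
  have hpi2 : Cfsg.classInner (I 1) (I 1) = 2 := by
    have hIc := IsChar.isClassFunction (isCharacter_indFun N (hμ 1))
    simp only [I]
    rw [frobenius_reciprocity N _ hIc]
    simp only [Cfsg.classInner, hI1one, one_mul]
    have hsum := zass_stab_sum hZ hab hHa hHcard hHfix (fun g => conj (I 1 g))
      (fun g _ x => by simp only [I]; rw [hIc x g])
    have hH : ∑ g ∈ Finset.univ.filter (· ∈ H), conj (I 1 g) = 2 * (h : ℂ) := by
      rw [Finset.sum_subtype (p := (· ∈ H)) _ (fun x => by simp) (fun g => conj (I 1 g)),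
        sum_subgroup_const (H := H) (fun g => conj (I 1 g)) (B := 1) (fun u hu hu1 => by
          rw [hIu 1 u hu hu1, map_one]), hI1, map_add, map_natCast, map_one, ← hh]
      ring
    have hE2 : ∑ g ∈ Finset.univ.filter (fun g => g ∈ E ∧ g ≠ 1), conj (I 1 g) = 2 * ((e : ℂ) - 1) := by
      rw [Finset.sum_congr rfl (g := fun _ => (2 : ℂ)) (fun g hg => by
          obtain ⟨-, hgE, hg1⟩ := Finset.mem_filter.1 hg
          simp only [I]
          rw [zass_ind_torus hZ hab hodd (IsChar.isClassFunction (hμ 1)) hgE.1 hgE.2 hg1, hI1one, hI1one,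
            show (1 : ℂ) + 1 = 2 by norm_num, map_ofNat]),
        Finset.sum_const, nsmul_eq_mul, mul_comm]
      congr 1
      rw [show (Finset.univ.filter fun g => g ∈ E ∧ g ≠ 1) = (Finset.univ.filter (· ∈ E)).erase 1 by
          ext g; simp [and_comm],
        Finset.card_erase_of_mem (by simp), ← Fintype.card_subtype, ← Nat.card_eq_fintype_card, ← he,
        Nat.cast_sub Nat.card_pos, Nat.cast_one]
    rw [Finset.sum_subtype (p := (· ∈ N)) _ (fun x => by simp [hN]) (fun g => conj (I 1 g)), hH, ← hh, hE2] at hsum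
    simp only [I] at hsum
    rw [hsum, hNc, Nat.cast_mul]
    field_simp
    ring
  let σ : G → ℂ := I 1 - fun _ => 1
  have hσ : Cfsg.IsIrrCharacter G σ := by
    refine IsGen.isIrr_of_norm_one (CfsgLib.Char.IsGen.sub (IsGen.of_isCharacter (isCharacter_indFun N (hμ 1)))
      IsGen.one) ?_ ?_
    · simp only [σ, classInner_sub_left, classInner_sub_right, hpi1, hpi2]
      rw [show Cfsg.classInner (fun _ : G => (1 : ℂ)) (I 1) = 1 by
          rw [← classInner_conj_symm, hpi1, map_one],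
        show Cfsg.classInner (fun _ : G => (1 : ℂ)) (fun _ => 1) = 1 from classInner_irr_self (trivChar G)]
      norm_num
    · simp only [σ, Pi.sub_apply, hI1, add_sub_cancel_right, Complex.natCast_re]
      exact_mod_cast Nat.card_pos (α := H)
  have hirr : ∀ ψ, ψ ≠ 1 → Cfsg.IsIrrCharacter G (I ψ) := fun ψ hψ =>
    zass_ind_linear_irreducible hZ hab hodd hHa hHcard hHfix (l ψ) (hlH ψ) (hl1 ψ hψ)
  have h1 := hkey θ (IsIrr.isClassFunction hθ)
  obtain ⟨ψ, hψ⟩ : ∃ ψ, Cfsg.classInner (I ψ) θ ≠ 0 := by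
    by_contra hcon
    push Not at hcon
    rw [Finset.sum_eq_zero fun ψ _ => hcon ψ] at h1
    exact mul_ne_zero (inv_ne_zero hh0) ((map_ne_zero _).2 hS) h1.symm
  intro u hu hu1 v hv hv1
  by_cases hψ1 : ψ = 1
  · subst hψ1
    have h2 : I 1 = σ + fun _ => (1 : ℂ) := by
      simp only [σ, sub_add_cancel]
    rw [h2, classInner_add_left] at hψ
    by_cases hσθ : σ = θ
    · rw [← hσθ]
      simp only [σ, Pi.sub_apply, hIu 1 u hu hu1, hIu 1 v hv hv1]
    · rw [CfsgLib.Char.Exceptional.classInner_eq_zero_of_irr hσ hθ hσθ, zero_add] at hψ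
      by_cases h1θ : (fun _ : G => (1 : ℂ)) = θ
      · rw [← h1θ]
      · exact absurd (CfsgLib.Char.Exceptional.classInner_eq_zero_of_irr isIrrCharacter_one hθ h1θ) hψ
  · have hθ' : I ψ = θ := by
      by_contra hne
      exact hψ (CfsgLib.Char.Exceptional.classInner_eq_zero_of_irr (hirr ψ hψ1) hθ hne)
    rw [← hθ', hIu ψ u hu hu1, hIu ψ v hv hv1]

end CfsgLib.PGroups.SuzukiZass
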