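import Mathlib
import Cfsg.Agent.Lib.PGroups.SuzukiZass.PrincipalSeries
import Cfsg.Agent.Lib.Char.Coherence.TIFNCoherence
import Cfsg.Agent.Lib.Char.Coherence.KernelValues

/-! Restrictions to the point stabiliser of irreducible characters orthogonal to the trivial
character of the kernel, and the norm inequality they satisfy. -/

set_option autoImplicit false
set_option linter.all false

open Cfsg
open scoped ComplexConjugate

namespace CfsgLib.PGroups.SuzukiZass

open CfsgLib.Char CfsgLib.Char.Exceptional CfsgLib.Coh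

attribute [local instance] Classical.propDecidable

section Frobenius

variable {L : Type*} [Group L] [Fintype L] {K : Subgroup L} [K.Normal]
  (hC : ∀ n ∈ K, n ≠ 1 → Subgroup.centralizer ({n} : Set L) ≤ K)

include hC

theorem member_eq_zero {s : L → ℂ} (hs : s ∈ Cfsg.inducedIrrAbove K ⊥) {x : L} (hx : x ∉ K) :
    s x = 0 := by
  obtain ⟨θ, -, -, -, rfl⟩ := hs
  exact indFun_normal_eq_zero K θ hx

theorem member_ne_triv {s : L → ℂ} (hs : s ∈ Cfsg.inducedIrrAbove K ⊥) : s ≠ fun _ => 1 := by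
  rintro rfl
  rw [above_bot_eq hC] at hs
  obtain ⟨-, x, -, hx⟩ := hs
  exact hx rfl

theorem member_sum {s : L → ℂ} (hs : s ∈ Cfsg.inducedIrrAbove K ⊥) : ∑ x : L, s x = 0 := by
  have h := classInner_eq_zero_of_irr (irr_of_mem hC s hs) isIrrCharacter_one (member_ne_triv hC hs)
  simp only [Cfsg.classInner, map_one, mul_one] at h
  exact (mul_eq_zero.1 h).resolve_left (inv_ne_zero (Nat.cast_ne_zero.2 Nat.card_pos.ne'))

/-- A character of `L` whose values sum to zero on `K` is a combination of the members of `S`. -/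
theorem exists_expansion [Fintype K] (Sf : Finset (L → ℂ))
    (hSf : ↑Sf = Cfsg.inducedIrrAbove K ⊥) {χ : L → ℂ} (hχ : Cfsg.IsCharacter L χ)
    (hsum : ∑ k : K, χ k = 0) :
    ∃ c : (L → ℂ) → ℕ, (∀ x : L, χ x = ∑ s ∈ Sf, (c s : ℂ) * s x) ∧
      (∀ s ∈ Sf, Cfsg.classInner χ s = (c s : ℂ)) ∧
      Cfsg.classInner χ χ = ((∑ s ∈ Sf, c s ^ 2 : ℕ) : ℂ) := by
  haveI := Fintype.ofFinite (Cfsg.IrrCharacter L)
  obtain ⟨mu, hmu⟩ := IsChar.exists_sum hχ
  have hmem : ∀ θ : Cfsg.IrrCharacter L, mu θ ≠ 0 → (θ : L → ℂ) ∈ Sf := by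
    intro θ hθ
    by_contra hθS
    have key : ∀ θ' : Cfsg.IrrCharacter L, ∃ w : ℕ, ∑ k : K, (θ' : L → ℂ) k = (w : ℂ) ∧
        ((θ' : L → ℂ) ∉ Sf → 0 < w) := by
      intro θ'
      by_cases h : (θ' : L → ℂ) ∈ Sf
      · refine ⟨0, ?_, fun h' => absurd h h'⟩
        rw [Nat.cast_zero, ← member_sum hC (hSf ▸ h : (θ' : L → ℂ) ∈ Cfsg.inducedIrrAbove K ⊥)]
        rw [← Finset.sum_filter_add_sum_filter_not Finset.univ (· ∈ K) (fun x => (θ' : L → ℂ) x),
          Finset.sum_eq_zero (s := Finset.univ.filter fun x => ¬ x ∈ K) fun x hx =>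
            member_eq_zero hC (hSf ▸ h) (Finset.mem_filter.1 hx).2, add_zero]
        exact (Finset.sum_subtype (p := (· ∈ K)) _ (fun x => by simp) fun x => (θ' : L → ℂ) x).symm
      · have hconst : ∀ k ∈ K, (θ' : L → ℂ) k = (θ' : L → ℂ) 1 := by
          by_contra hne
          push Not at hne
          refine h (?_ : (θ' : L → ℂ) ∈ (↑Sf : Set (L → ℂ)))
          rw [hSf, above_bot_eq hC]
          exact ⟨θ'.2, hne⟩
        obtain ⟨j, hj, hj'⟩ := IsIrr.exists_degree θ'.2
        refine ⟨Fintype.card K * j, ?_, fun _ => Nat.mul_pos Fintype.card_pos hj⟩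
        rw [Finset.sum_congr rfl fun (k : K) _ => hconst k k.2, hj', Finset.sum_const, Finset.card_univ,
          nsmul_eq_mul, Nat.cast_mul]
    choose w hw hwpos using key
    have h1 : ∑ θ' : Cfsg.IrrCharacter L, mu θ' * w θ' = 0 := by
      have h2 : ((∑ θ' : Cfsg.IrrCharacter L, mu θ' * w θ' : ℕ) : ℂ) = 0 := by
        rw [← hsum]
        simp only [hmu, Finset.sum_apply, Pi.smul_apply, smul_eq_mul]
        rw [Finset.sum_comm, Nat.cast_sum]
        refine Finset.sum_congr rfl fun θ' _ => ?_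
        rw [← Finset.mul_sum, hw θ', Nat.cast_mul]
      exact_mod_cast h2
    have := Finset.sum_eq_zero_iff.1 h1 θ (Finset.mem_univ _)
    exact Nat.mul_ne_zero hθ (hwpos θ hθS).ne' this
  let c : (L → ℂ) → ℕ := fun s => if h : Cfsg.IsIrrCharacter L s then mu ⟨s, h⟩ else 0
  have hcθ : ∀ θ : Cfsg.IrrCharacter L, c (θ : L → ℂ) = mu θ := fun θ => by simp only [c, dif_pos θ.2]
  have hSirr : ∀ s ∈ Sf, Cfsg.IsIrrCharacter L s := fun s hs => irr_of_mem hC s (hSf ▸ hs)
  have hexp : ∀ x : L, χ x = ∑ s ∈ Sf, (c s : ℂ) * s x := by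
    intro x
    rw [hmu, Finset.sum_apply,
      ← Finset.sum_subset (Finset.subset_univ (Finset.univ.filter fun θ : Cfsg.IrrCharacter L => (θ : L → ℂ) ∈ Sf))
        (fun θ _ hθ => by
          rw [Pi.smul_apply, smul_eq_mul]
          by_contra hne
          exact hθ (Finset.mem_filter.2 ⟨Finset.mem_univ _, hmem θ fun h0 => hne (by rw [h0]; simp)⟩))]
    refine Finset.sum_bij (fun θ _ => (θ : L → ℂ)) (fun θ hθ => (Finset.mem_filter.1 hθ).2)
      (fun θ _ θ' _ h => Subtype.ext h) (fun s hs => ⟨⟨s, hSirr s hs⟩, Finset.mem_filter.2 ⟨Finset.mem_univ _, hs⟩, rfl⟩)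
      fun θ _ => by rw [hcθ, Pi.smul_apply, smul_eq_mul]
  have hinner : ∀ s ∈ Sf, Cfsg.classInner χ s = (c s : ℂ) := fun s hs => by
    rw [hmu, show s = ((⟨s, hSirr s hs⟩ : Cfsg.IrrCharacter L) : L → ℂ) from rfl, classInner_sum_irr, hcθ]
  refine ⟨c, hexp, hinner, ?_⟩
  have hfun : χ = ∑ s ∈ Sf, (c s : ℂ) • s := funext fun x => by simp [hexp x, Finset.sum_apply]
  conv_lhs => arg 2; rw [hfun]
  rw [classInner_sum_right, Nat.cast_sum]
  refine Finset.sum_congr rfl fun s hs => ?_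
  rw [classInner_smul_right, hinner s hs, map_natCast, Nat.cast_pow, pow_two]

/-- Elements of `zspanOn` are orthogonal to functions constant away from `1` on `K`. -/
theorem inner_const_eq_zero {χ : L → ℂ} {α : L → ℂ}
    (hα : α ∈ Cfsg.zspanOn (Cfsg.inducedIrrAbove K ⊥) ({1}ᶜ : Set L))
    (hconst : ∀ x ∈ K, x ≠ 1 → ∀ y ∈ K, y ≠ 1 → χ x = χ y) : Cfsg.classInner χ α = 0 := by
  have hsum : ∑ x : L, α x = 0 ∧ ∀ x, x ∉ K → α x = 0 := by
    obtain ⟨hspan, -⟩ := hα
    induction hspan using Submodule.span_induction with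
    | mem s hs => exact ⟨member_sum hC hs, fun x hx => member_eq_zero hC hs hx⟩
    | zero => exact ⟨by simp, fun x _ => rfl⟩
    | add s t _ _ ihs iht =>
      refine ⟨?_, fun x hx => by simp [ihs.2 x hx, iht.2 x hx]⟩
      simp [Finset.sum_add_distrib, ihs.1, iht.1]
    | smul z s _ ih =>
      refine ⟨?_, fun x hx => by simp [ih.2 x hx]⟩
      simp [← Finset.mul_sum, ih.1]
  obtain ⟨c, hc⟩ : ∃ c : ℂ, ∀ x ∈ K, x ≠ 1 → χ x = c := by
    by_cases h : ∃ y ∈ K, y ≠ 1
    · obtain ⟨y, hy, hy1⟩ := h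
      exact ⟨χ y, fun x hx hx1 => hconst x hx hx1 y hy hy1⟩
    · exact ⟨0, fun x hx hx1 => absurd ⟨x, hx, hx1⟩ h⟩
  have h1 : α 1 = 0 := hα.2 1 (by simp)
  have hterm : ∀ x : L, χ x * conj (α x) = c * conj (α x) := by
    intro x
    by_cases hx1 : x = 1
    · subst hx1; simp [h1]
    by_cases hx : x ∈ K
    · rw [hc x hx hx1]
    · simp [hsum.2 x hx]
  simp only [Cfsg.classInner, hterm, ← Finset.mul_sum, ← map_sum, hsum.1, map_zero, mul_zero]

end Frobenius

section Global

universe u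

variable {G : Type u} {Ω : Type*} [Group G] [Fintype G] [MulAction G Ω] [Fintype Ω] [IsSimpleGroup G]
variable {H : Subgroup G} {a b : Ω} {m : ℕ}

/-- The norm inequality: the conjugates of `H` alone carry less than `|G|`. -/
theorem Kern.norm_bound (K : Kern H a b m) {θ : G → ℂ} (hθ : Cfsg.IsIrrCharacter G θ) {f : ℝ}
    (hf : θ 1 = (f : ℂ)) (hfpos : 0 < f) :
    (Fintype.card Ω : ℝ) * ((∑ x ∈ Finset.univ.filter (· ∈ H), Complex.normSq (θ x)) - f ^ 2) < Nat.card G := by
  haveI := zass_trans K.zass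
  have htot : ∑ x : G, Complex.normSq (θ x) = Nat.card G := by
    have h := classInner_self_of_irr hθ
    rw [Cfsg.classInner, inv_mul_eq_iff_eq_mul₀ (Nat.cast_ne_zero.2 Nat.card_pos.ne'), mul_one] at h
    have h2 := congrArg Complex.re h
    rw [Complex.re_sum, Complex.natCast_re] at h2
    rw [← h2]
    refine Finset.sum_congr rfl fun x _ => ?_
    rw [Complex.mul_conj, Complex.ofReal_re]
  let B : Ω → Finset G := fun c => Finset.univ.filter fun g =>
    g ≠ 1 ∧ g • c = c ∧ ∀ p : Ω, g • p = p → p = c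
  have hB : ∀ c : Ω, ∑ g ∈ B c, Complex.normSq (θ g) =
      (∑ x ∈ Finset.univ.filter (· ∈ H), Complex.normSq (θ x)) - f ^ 2 := by
    intro c
    obtain ⟨g0, hg0⟩ := MulAction.exists_smul_eq G a c
    rw [← Finset.add_sum_erase _ _ (show (1 : G) ∈ Finset.univ.filter (· ∈ H) by simp), hf,
      Complex.normSq_ofReal, ← pow_two, add_sub_cancel_left]
    refine (Finset.sum_equiv (MulAut.conj g0).toEquiv (fun x => ?_) fun x _ => ?_).symm
    · simp only [B, Finset.mem_erase, Finset.mem_filter, Finset.mem_univ, true_and]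
      show _ ↔ g0 * x * g0⁻¹ ≠ 1 ∧ (g0 * x * g0⁻¹) • c = c ∧ ∀ p : Ω, (g0 * x * g0⁻¹) • p = p → p = c
      constructor
      · rintro ⟨hx1, hx⟩
        refine ⟨fun e => hx1 (conj_eq_one_iff.1 e), ?_, fun p hp => ?_⟩
        · rw [mul_smul, mul_smul, ← hg0, inv_smul_smul, show x • a = a from K.le hx]
        · rw [mul_smul, mul_smul, smul_eq_iff_eq_inv_smul] at hp
          rw [← hg0, ← K.fix x hx hx1 _ hp, smul_inv_smul]
      · rintro ⟨hx1, hxc, hu⟩
        refine ⟨fun e => hx1 (by rw [e]; group), zass_mem_kernel K.zass K.le K.card K.fix ?_ fun p hp => ?_⟩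
        · rw [mul_smul, mul_smul, ← hg0, inv_smul_smul] at hxc
          exact MulAction.injective g0 hxc
        · refine MulAction.injective g0 ((hu (g0 • p) ?_).trans hg0.symm)
          rw [mul_smul, mul_smul, inv_smul_smul, hp]
    · show Complex.normSq (θ x) = Complex.normSq (θ (g0 * x * g0⁻¹))
      rw [IsIrr.isClassFunction hθ x g0]
  have hdisj : ((Finset.univ : Finset Ω) : Set Ω).PairwiseDisjoint B := by
    intro c _ c' _ hne
    refine Finset.disjoint_left.2 fun g hg hg' => hne ?_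
    exact ((Finset.mem_filter.1 hg').2.2.2 c (Finset.mem_filter.1 hg).2.2.1)
  have hsub : (Finset.univ : Finset Ω).biUnion B ⊆ (Finset.univ : Finset G).erase 1 := fun g hg => by
    obtain ⟨c, -, hc⟩ := Finset.mem_biUnion.1 hg
    exact Finset.mem_erase.2 ⟨(Finset.mem_filter.1 hc).2.1, Finset.mem_univ _⟩
  have hle := Finset.sum_le_sum_of_subset_of_nonneg (f := fun g => Complex.normSq (θ g)) hsub
    fun g _ _ => Complex.normSq_nonneg _
  rw [Finset.sum_biUnion hdisj, Finset.sum_congr rfl fun c _ => hB c, Finset.sum_const, Finset.card_univ,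
    nsmul_eq_mul] at hle
  rw [← Finset.add_sum_erase _ _ (Finset.mem_univ (1 : G)), hf, Complex.normSq_ofReal, ← pow_two] at htot
  have : 0 < f ^ 2 := by positivity
  linarith

end Global

end CfsgLib.PGroups.SuzukiZass
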