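import Mathlib
import Cfsg.Agent.Lib.PGroups.SuzukiZass.KernelRestrict
import Cfsg.Agent.Lib.PGroups.SuzukiZass.Arith

/-! The point kernel of a simple Zassenhaus group is not a Suzuki 2-group of order `q³`. -/

set_option autoImplicit false
set_option linter.all false

open Cfsg
open scoped ComplexConjugate

namespace CfsgLib.PGroups.SuzukiZass

open CfsgLib.Char CfsgLib.Char.Exceptional CfsgLib.Coh

attribute [local instance] Classical.propDecidable

universe u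

variable {G : Type u} {Ω : Type*} [Group G] [Finite G] [MulAction G Ω] [Fintype Ω] [IsSimpleGroup G]
variable {H : Subgroup G} {a b : Ω} {m : ℕ}

set_option maxHeartbeats 4000000 in
theorem Kern.not_cube (K : Kern H a b m) (hH3 : Nat.card H = (2 ^ m) ^ 3) : False := by
  haveI := Fintype.ofFinite G
  haveI := Fintype.ofFinite H
  haveI := zass_trans K.zass
  haveI := Fintype.ofFinite (Cfsg.IrrCharacter G)
  set N := Subgroup.normalizer (H : Set G) with hNdef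
  haveI := Fintype.ofFinite N
  set K' := H.subgroupOf N with hK'
  haveI : K'.Normal := tifn_normal H
  haveI := Fintype.ofFinite K'
  obtain ⟨q, hq⟩ : ∃ q, q = 2 ^ m := ⟨_, rfl⟩
  obtain ⟨d, hd⟩ : ∃ d, d = Nat.card ↥(MulAction.stabilizer G a ⊓ MulAction.stabilizer G b : Subgroup G) :=
    ⟨_, rfl⟩
  have hdq : d + 1 = q := by rw [hd, hq]; exact K.card_two_stab
  have hq4 : 4 ≤ q := hq ▸ K.four_le
  rw [← hq] at hH3
  have hnΩ : Fintype.card Ω = q ^ 3 + 1 := by rw [← hH3]; exact K.card.symm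
  have hGc : Nat.card G = (q ^ 3 + 1) * (q ^ 3 * d) := by rw [K.card_eq, hH3, ← hd]
  have hHN : H ≤ N := Subgroup.le_normalizer
  have hK'card : Nat.card K' = q ^ 3 := by
    rw [← hH3]; exact Nat.card_congr (Subgroup.subgroupOfEquivOfLe hHN).toEquiv
  have hNcard : Nat.card N = q ^ 3 * d := by
    rw [hNdef, K.normalizer_eq, zass_card_stab K.zass K.ne, hnΩ, Nat.add_sub_cancel, ← hd]
  have hidx : K'.index = d := by
    have h := K'.card_mul_index
    rw [hK'card, hNcard] at h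
    exact Nat.eq_of_mul_eq_mul_left (by positivity) h
  -- hypotheses on the TI kernel
  have hC : ∀ k ∈ H, k ≠ 1 → Subgroup.centralizer ({k} : Set G) ≤ H := fun k hk hk1 =>
    K.centralizer_le hk hk1
  have hTI : ∀ g : G, g ∉ Subgroup.normalizer (H : Set G) → ∀ k ∈ H, g * k * g⁻¹ ∈ H → k = 1 :=
    fun g hg k hk hgk => zass_kernel_ti K.zass K.le K.fix (fun h' => hg (K.normalizer_eq.ge h')) hk hgk
  have hC' := tifn_cent H hC
  obtain ⟨hiso, hiso1⟩ := tifn_isometry H hTI hC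
  rw [← above_eq_tifnSet H hC, ← hK'] at hiso hiso1
  set τ := Cfsg.indFun N with hτdef
  -- the derived subgroup
  set A' := ⁅K', K'⁆ with hA'
  have hA'idx : A'.relIndex K' = q ^ 2 := by
    have h1 : A'.relIndex K' = ⁅H, H⁆.relIndex H := relIndex_commutator_subgroupOf hHN
    have h2 := K.comm_index
    rw [← h1, hH3, ← hq] at h2
    exact Nat.eq_of_mul_eq_mul_right (show 0 < q by omega) (by rw [h2]; ring)
  have hA : ¬ K' ≤ A' := fun h => by
    rw [Subgroup.relIndex_eq_one.2 h] at hA'idx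
    nlinarith
  have hsolv : Group.IsSolvable K' := by
    haveI := zass_kernel_nilpotent K.zass K.ne K.le K.card K.fix
    haveI : Group.IsSolvable H := inferInstance
    exact Group.isSolvable_of_surjective (f := ((Subgroup.subgroupOfEquivOfLe hHN).symm : H ≃* K').toMonoidHom)
      (Subgroup.subgroupOfEquivOfLe hHN).symm.surjective
  have hcoh := frob_base hC' hiso hiso1 hA le_rfl (by rw [hA'idx, hidx, hdq]; nlinarith) hsolv
  have hirrS : ∀ s ∈ Cfsg.inducedIrrAbove K' ⊥, Cfsg.IsIrrCharacter N s := irr_of_mem hC'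
  have hsub1 : Cfsg.inducedIrrAbove K' A' ⊆ Cfsg.inducedIrrAbove K' ⊥ := inducedIrrAbove_subset A'
  have hfin := finite_of_irr hirrS
  haveI := hfin.fintype
  haveI := (hfin.subset hsub1).fintype
  set Sf := (Cfsg.inducedIrrAbove K' (⊥ : Subgroup N)).toFinset with hSfdef
  set F1 := (Cfsg.inducedIrrAbove K' A').toFinset with hF1def
  have hmemS : ∀ s, s ∈ Sf ↔ s ∈ Cfsg.inducedIrrAbove K' (⊥ : Subgroup N) := fun s => Set.mem_toFinset
  have hmem1 : ∀ s, s ∈ F1 ↔ s ∈ Cfsg.inducedIrrAbove K' A' := fun s => Set.mem_toFinset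
  have hSfcoe : (↑Sf : Set (N → ℂ)) = Cfsg.inducedIrrAbove K' ⊥ := Set.coe_toFinset _
  have hF1S : F1 ⊆ Sf := fun s hs => (hmemS s).2 (hsub1 ((hmem1 s).1 hs))
  -- degrees
  have hdeg : ∀ s ∈ Sf, ∃ r : ℕ, s 1 = ((d * r : ℕ) : ℂ) ∧ r ∣ q ^ 3 ∧ 0 < r := by
    intro s hs
    obtain ⟨θ, hθ, -, -, rfl⟩ := (hmemS s).1 hs
    refine ⟨Cfsg.charDegree θ, ?_, ?_, CfsgLib.CharDegree.charDegree_pos ⟨θ, hθ⟩⟩
    · rw [indFun_apply_one, hidx, Nat.cast_mul, CfsgLib.CharDegree.cast_charDegree (IsIrr.isCharacter hθ)]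
    · rw [← hK'card]; exact CfsgLib.CharDegree.charDegree_dvd_card ⟨θ, hθ⟩
  choose! r hr hrdvd hrpos using hdeg
  have hr1 : ∀ s ∈ F1, r s = 1 := by
    intro s hs
    have h := apply_one_of_mem (A := A') le_rfl ((hmem1 s).1 hs)
    rw [hr s (hF1S hs), hidx, Nat.cast_inj] at h
    exact Nat.eq_of_mul_eq_mul_left (show 0 < d by omega) (h.trans (mul_one d).symm)
  have hwt : ∀ s ∈ Sf, wt s = ((d * r s : ℕ) : ℝ) ^ 2 := by
    intro s hs
    rw [wt, hr s hs, classInner_self_of_irr (hirrS s ((hmemS s).1 hs)), Complex.natCast_re, Complex.one_re, div_one]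
  have hdR : (0 : ℝ) < d := by
    have : 0 < d := by omega
    exact_mod_cast this
  have hqR : (q : ℝ) = d + 1 := by rw [← hdq]; push_cast; ring
  have hF1card : F1.card = q + 1 := by
    have h := sum_wt (K := K') A'
    rw [← Finset.sum_subtype F1 (fun x => Set.mem_toFinset) wt, Finset.sum_congr rfl (g := fun _ => (d : ℝ) ^ 2)
      fun s hs => by rw [hwt s (hF1S hs), hr1 s hs, mul_one],
      Finset.sum_const, nsmul_eq_mul, hidx, hA'idx] at h
    push_cast at h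
    have h' : (F1.card : ℝ) = (q + 1 : ℕ) := by
      push_cast
      refine mul_right_cancel₀ (pow_ne_zero 2 hdR.ne') ?_
      rw [h, hqR]; ring
    exact_mod_cast h'
  set F2 := Sf \ F1 with hF2
  have hsum2 : ∑ s ∈ F2, r s ^ 2 = q ^ 2 := by
    have h := sum_wt (K := K') (⊥ : Subgroup N)
    rw [← Finset.sum_subtype Sf (fun x => Set.mem_toFinset) wt, Finset.sum_congr rfl hwt,
      ← Finset.sum_sdiff hF1S, ← hF2, Finset.sum_congr rfl (s₂ := F1) (g := fun _ => (d : ℝ) ^ 2)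
        (fun s hs => by rw [hr1 s hs, mul_one]),
      Finset.sum_const, nsmul_eq_mul, hidx, Subgroup.relIndex_bot_left, hK'card, hF1card] at h
    have e1 : ∑ x ∈ F2, ((d * r x : ℕ) : ℝ) ^ 2 = (d : ℝ) ^ 2 * ((∑ x ∈ F2, r x ^ 2 : ℕ) : ℝ) := by
      push_cast
      rw [Finset.mul_sum]
      exact Finset.sum_congr rfl fun x _ => by ring
    rw [e1] at h
    have h' : ((∑ s ∈ F2, r s ^ 2 : ℕ) : ℝ) = ((q ^ 2 : ℕ) : ℝ) := by
      refine mul_left_cancel₀ (pow_ne_zero 2 hdR.ne') ?_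
      push_cast at h ⊢
      rw [hqR] at h ⊢
      linear_combination h
    exact_mod_cast h'
  have hrle : ∀ s ∈ F2, r s = q ∨ 2 * r s ≤ q := by
    intro s hs
    have hle : r s ^ 2 ≤ q ^ 2 := hsum2 ▸ Finset.single_le_sum (f := fun s => r s ^ 2) (fun _ _ => Nat.zero_le _) hs
    have hle' : r s ≤ q := (Nat.pow_le_pow_iff_left two_ne_zero).1 hle
    obtain ⟨j, -, hj⟩ := (Nat.dvd_prime_pow Nat.prime_two).1
      (show r s ∣ 2 ^ (m * 3) by rw [pow_mul, ← hq]; exact hrdvd s (Finset.mem_sdiff.1 hs).1)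
    rw [hj, hq] at hle' ⊢
    rcases ((Nat.pow_le_pow_iff_right (by norm_num)).1 hle').lt_or_eq with h | h
    · right
      rw [← pow_succ']
      exact Nat.pow_le_pow_right two_pos h
    · left; rw [h]
  -- two members of degree `d`
  obtain ⟨φ₁, hφ₁, φ₂, hφ₂, h12⟩ := Finset.one_lt_card.1 (show 1 < F1.card by omega)
  obtain ⟨-, τ₁, hτ₁, hext⟩ := hcoh
  have hirr1 : ∀ s ∈ Cfsg.inducedIrrAbove K' A', Cfsg.IsIrrCharacter N s := fun s hs => hirrS s (hsub1 hs)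
  obtain ⟨ε, hε, hYirr, hinj⟩ := iso_signs hirr1
    ⟨φ₁, (hmem1 _).1 hφ₁, φ₂, (hmem1 _).1 hφ₂, h12⟩ hτ₁ (fun α hα h1 => by
      have hm' : α ∈ Cfsg.zspanOn (Cfsg.inducedIrrAbove K' A') ({1}ᶜ : Set N) := ⟨hα, fun x hx => by
        simp only [Set.mem_compl_iff, Set.mem_singleton_iff, not_not] at hx
        rw [hx, h1]⟩
      rw [hext α hm']
      exact hiso1 α (zspanOn_subset _ hsub1 hm'))
  obtain ⟨εz, hεz, hεz'⟩ : ∃ z : ℤ, (z : ℂ) = ε ∧ (z = 1 ∨ z = -1) := by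
    rcases hε with rfl | rfl
    exacts [⟨1, by simp, Or.inl rfl⟩, ⟨-1, by simp, Or.inr rfl⟩]
  have hεε : ε * ε = 1 := by rcases hε with rfl | rfl <;> norm_num
  have hεc : conj ε = ε := by rw [← hεz, map_intCast]
  have hτ1φ : ∀ φ ∈ F1, τ₁ φ = ε • (ε • τ₁ φ) := fun φ _ => by rw [smul_smul, hεε, one_smul]
  have hdiffS : ∀ φ ∈ F1, ∀ φ' ∈ F1,
      φ - φ' ∈ Cfsg.zspanOn (Cfsg.inducedIrrAbove K' A') ({1}ᶜ : Set N) := fun φ hφ φ' hφ' =>
    sub_mem_zspanOn_one ((hmem1 _).1 hφ) ((hmem1 _).1 hφ')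
      (by rw [hr φ (hF1S hφ), hr φ' (hF1S hφ'), hr1 φ hφ, hr1 φ' hφ'])
  have hτdiff : ∀ φ ∈ F1, ∀ φ' ∈ F1, τ (φ - φ') = τ₁ φ - τ₁ φ' := fun φ hφ φ' hφ' => by
    rw [← hext _ (hdiffS φ hφ φ' hφ'), iso_map_sub hτ₁ (mem_zspan_self ((hmem1 _).1 hφ))
      (mem_zspan_self ((hmem1 _).1 hφ'))]
  have hYinner : ∀ θ : G → ℂ, Cfsg.IsIrrCharacter G θ → ∀ φ ∈ F1,
      Cfsg.classInner θ (τ₁ φ) = if θ = ε • τ₁ φ then ε else 0 := by
    intro θ hθ φ hφ
    conv_lhs => rw [hτ1φ φ hφ]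
    rw [classInner_smul_right, hεc]
    split_ifs with h
    · rw [← h, classInner_self_of_irr hθ, mul_one]
    · rw [classInner_eq_zero_of_irr hθ (hYirr φ ((hmem1 _).1 hφ)) h, mul_zero]
  have hYinj : ∀ φ ∈ F1, ∀ φ' ∈ F1, ε • τ₁ φ = ε • τ₁ φ' → φ = φ' := fun φ hφ φ' hφ' h =>
    hinj φ ((hmem1 _).1 hφ) φ' ((hmem1 _).1 hφ') (by rw [hτ1φ φ hφ, hτ1φ φ' hφ', h])
  -- restriction of characters of `G`
  have hrestr : ∀ θ : G → ℂ, Cfsg.IsClassFunction G θ → ∀ β : N → ℂ,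
      Cfsg.classInner θ (τ β) = Cfsg.classInner (fun x : N => θ x) β := by
    intro θ hθ β
    rw [← classInner_conj_symm, frobenius_reciprocity N β hθ, classInner_conj_symm]
  have hzero : ∀ θ : G → ℂ, Cfsg.IsIrrCharacter G θ → ∑ u : H, θ u ≠ 0 →
      ∀ β ∈ Cfsg.zspanOn (Cfsg.inducedIrrAbove K' ⊥) ({1}ᶜ : Set N), Cfsg.classInner θ (τ β) = 0 := by
    intro θ hθ hS β hβ
    rw [hrestr θ (IsIrr.isClassFunction hθ) β]
    refine inner_const_eq_zero hC' hβ fun x hx hx1 y hy hy1 => ?_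
    exact K.const_of_sum_ne hθ hS x (Subgroup.mem_subgroupOf.1 hx) (fun e => hx1 (Subtype.ext e))
      y (Subgroup.mem_subgroupOf.1 hy) (fun e => hy1 (Subtype.ext e))
  have hexpand : ∀ θ : G → ℂ, Cfsg.IsIrrCharacter G θ → ∑ u : H, θ u = 0 →
      ∃ c : (N → ℂ) → ℕ, (∀ x : N, θ x = ∑ s ∈ Sf, (c s : ℂ) * s x) ∧
        (∀ s ∈ Sf, Cfsg.classInner (fun x : N => θ x) s = (c s : ℂ)) ∧
        Cfsg.classInner (fun x : N => θ x) (fun x : N => θ x) = ((∑ s ∈ Sf, c s ^ 2 : ℕ) : ℂ) := by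
    intro θ hθ hS
    refine exists_expansion hC' Sf hSfcoe (IsChar.restrict N (IsIrr.isCharacter hθ)) ?_
    rw [← hS]
    exact Fintype.sum_equiv (Subgroup.subgroupOfEquivOfLe hHN).toEquiv _ _ fun k => rfl
  -- the exceptional character
  set X := ε • τ₁ φ₁ with hXdef
  have hX : Cfsg.IsIrrCharacter G X := hYirr φ₁ ((hmem1 _).1 hφ₁)
  have hXτ : ∀ φ ∈ F1, φ ≠ φ₁ → Cfsg.classInner X (τ (φ₁ - φ)) = ε := by
    intro φ hφ hne
    rw [hτdiff φ₁ hφ₁ φ hφ, classInner_sub_right, hYinner X hX φ₁ hφ₁, hYinner X hX φ hφ, if_pos rfl,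
      if_neg fun e => hne (hYinj φ hφ φ₁ hφ₁ e.symm), sub_zero]
  have hXsum : ∑ u : H, X u = 0 := by
    by_contra hS
    have h := hzero X hX hS _ (zspanOn_subset _ hsub1 (hdiffS φ₁ hφ₁ φ₂ hφ₂))
    rw [hXτ φ₂ hφ₂ (Ne.symm h12)] at h
    rw [h] at hεε
    simp at hεε
  obtain ⟨c, hcX, hcinner, hcnorm⟩ := hexpand X hX hXsum
  obtain ⟨A, hA0⟩ : ∃ A, A = c φ₂ := ⟨_, rfl⟩
  have hc1 : ∀ φ ∈ F1, φ ≠ φ₁ → (c φ₁ : ℤ) = (c φ : ℤ) + εz := by
    intro φ hφ hne
    have h := hXτ φ hφ hne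
    rw [hrestr X (IsIrr.isClassFunction hX), classInner_sub_right, hcinner φ₁ (hF1S hφ₁),
      hcinner φ (hF1S hφ), sub_eq_iff_eq_add, ← hεz] at h
    have h' : ((c φ₁ : ℤ) : ℂ) = (((c φ : ℤ) + εz : ℤ) : ℂ) := by push_cast; rw [h]; ring
    exact_mod_cast h'
  have hcA : ∀ φ ∈ F1, φ ≠ φ₁ → c φ = A := by
    intro φ hφ hne
    have := hc1 φ hφ hne
    have := hc1 φ₂ hφ₂ (Ne.symm h12)
    omega
  have hcA1 : (c φ₁ : ℤ) = (A : ℤ) + εz := by rw [hA0]; exact hc1 φ₂ hφ₂ (Ne.symm h12)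
  -- the degree of the exceptional characters
  obtain ⟨f, hfpos, hf⟩ := IsIrr.exists_degree hX
  have hYdeg : ∀ φ ∈ F1, τ₁ φ 1 = ε * (f : ℂ) := by
    intro φ hφ
    have h := hiso1 _ (zspanOn_subset _ hsub1 (hdiffS φ₁ hφ₁ φ hφ))
    rw [hτdiff φ₁ hφ₁ φ hφ, Pi.sub_apply, sub_eq_zero] at h
    rw [← h]
    have h2 : X 1 = ε * τ₁ φ₁ 1 := rfl
    rw [← hf, h2, ← mul_assoc, hεε, one_mul]
  -- the images of the remaining members
  have hΓ : ∀ s ∈ F2, ∃ (av : ℤ) (e : Cfsg.IrrCharacter G → ℤ),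
      (av = 0 ∨ (av = -1 ∧ r s = q)) ∧
      (∀ θ : Cfsg.IrrCharacter G, Cfsg.classInner (θ : G → ℂ) (τ ((r s : ℂ) • φ₁ - s)) = (e θ : ℂ)) ∧
      (∀ φ ∈ F1, ∀ θ : Cfsg.IrrCharacter G, (θ : G → ℂ) = ε • τ₁ φ →
        e θ = εz * (av + if φ = φ₁ then (r s : ℤ) else 0)) ∧
      ∑ θ : Cfsg.IrrCharacter G, e θ ^ 2 = (r s : ℤ) ^ 2 + 1 ∧
      ∑ θ : Cfsg.IrrCharacter G, (e θ : ℂ) * (θ : G → ℂ) 1 = 0 := by
    intro s hs
    obtain ⟨hsS, hs1⟩ := Finset.mem_sdiff.1 hs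
    set β := (r s : ℂ) • φ₁ - s with hβ
    have hsmem := (hmemS s).1 hsS
    have hφ1S := (hmemS φ₁).1 (hF1S hφ₁)
    have hβmem : β ∈ Cfsg.zspanOn (Cfsg.inducedIrrAbove K' ⊥) ({1}ᶜ : Set N) := by
      refine ⟨(Submodule.span ℤ _).sub_mem (natCast_smul_mem_zspan _ (mem_zspan_self hφ1S))
        (mem_zspan_self hsmem), fun x hx => ?_⟩
      simp only [Set.mem_compl_iff, Set.mem_singleton_iff, not_not] at hx
      subst hx
      rw [hβ, Pi.sub_apply, Pi.smul_apply, smul_eq_mul, hr φ₁ (hF1S hφ₁), hr s hsS, hr1 φ₁ hφ₁]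
      push_cast; ring
    have hsφ : ∀ φ ∈ F1, Cfsg.classInner s φ = 0 := fun φ hφ =>
      classInner_eq_zero_of_irr (hirrS s hsmem) (hirr1 φ ((hmem1 _).1 hφ)) fun e => hs1 (e ▸ hφ)
    have hφφ : ∀ φ ∈ F1, ∀ φ' ∈ F1, Cfsg.classInner φ φ' = if φ = φ' then 1 else 0 := by
      intro φ hφ φ' hφ'
      split_ifs with h
      · rw [h, classInner_self_of_irr (hirr1 φ' ((hmem1 _).1 hφ'))]
      · exact classInner_eq_zero_of_irr (hirr1 φ ((hmem1 _).1 hφ)) (hirr1 φ' ((hmem1 _).1 hφ')) h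
    have hnorm : Cfsg.classInner (τ β) (τ β) = (r s : ℂ) ^ 2 + 1 := by
      rw [hiso.2.2.1 β hβmem β hβmem, hβ, classInner_sub_left, classInner_sub_right, classInner_sub_right,
        classInner_smul_left, classInner_smul_right, classInner_smul_left, classInner_smul_right,
        hφφ φ₁ hφ₁ φ₁ hφ₁, if_pos rfl, hsφ φ₁ hφ₁, classInner_self_of_irr (hirrS s hsmem),
        ← classInner_conj_symm s φ₁, hsφ φ₁ hφ₁]
      simp; ring
    have hgen : Cfsg.IsGeneralizedCharacter G (τ β) := hiso.2.2.2 β hβmem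
    obtain ⟨e, he⟩ := CfsgLib.Char.Exceptional.IsGen.exists_sum hgen
    have heinner : ∀ θ : Cfsg.IrrCharacter G, Cfsg.classInner (θ : G → ℂ) (τ β) = (e θ : ℂ) := fun θ => by
      rw [← classInner_conj_symm (τ β) (θ : G → ℂ), he, classInner_sum_irr, map_intCast]
    have hnormsum : ∑ θ : Cfsg.IrrCharacter G, e θ ^ 2 = (r s : ℤ) ^ 2 + 1 := by
      rw [he, classInner_sum_self] at hnorm
      simp only [pow_two]
      have : ((∑ ψ : Cfsg.IrrCharacter G, e ψ * e ψ : ℤ) : ℂ) = (((r s : ℤ) * r s + 1 : ℤ) : ℂ) := by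
        rw [hnorm]; push_cast; ring
      exact_mod_cast this
    have hdeg0 : ∑ θ : Cfsg.IrrCharacter G, (e θ : ℂ) * (θ : G → ℂ) 1 = 0 := by
      have h := hiso1 β hβmem
      rw [he, Finset.sum_apply] at h
      simpa using h
    let img : {φ // φ ∈ F1} → Cfsg.IrrCharacter G := fun φ => ⟨ε • τ₁ φ.1, hYirr φ.1 ((hmem1 _).1 φ.2)⟩
    have himg : Function.Injective img := fun φ φ' h =>
      Subtype.ext (hYinj φ.1 φ.2 φ'.1 φ'.2 (congrArg Subtype.val h))
    set av := εz * e (img ⟨φ₂, hφ₂⟩) with hav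
    have hez : ∀ z : ℤ, εz * (εz * z) = z := fun z => by rcases hεz' with h | h <;> rw [h] <;> ring
    have heimg : ∀ φ ∈ F1, ∀ θ : Cfsg.IrrCharacter G, (θ : G → ℂ) = ε • τ₁ φ →
        e θ = εz * (av + if φ = φ₁ then (r s : ℤ) else 0) := by
      have hdiff : ∀ φ (hφ : φ ∈ F1), φ ≠ φ₁ →
          εz * e (img ⟨φ₁, hφ₁⟩) - εz * e (img ⟨φ, hφ⟩) = (r s : ℤ) := by
        intro φ hφ hne
        have h := hiso.2.2.1 β hβmem _ (zspanOn_subset _ hsub1 (hdiffS φ₁ hφ₁ φ hφ))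
        have h2 : ∀ φ' (hφ' : φ' ∈ F1), Cfsg.classInner (τ β) (τ₁ φ') = ε * (e (img ⟨φ', hφ'⟩) : ℂ) := by
          intro φ' hφ'
          rw [hτ1φ φ' hφ', classInner_smul_right, hεc]
          congr 1
          rw [he]
          exact classInner_sum_irr _ (img ⟨φ', hφ'⟩)
        rw [hτdiff φ₁ hφ₁ φ hφ, classInner_sub_right, h2 φ₁ hφ₁, h2 φ hφ, hβ, classInner_sub_left,
          classInner_smul_left, classInner_sub_right, classInner_sub_right, hφφ φ₁ hφ₁ φ₁ hφ₁,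
          hφφ φ₁ hφ₁ φ hφ, if_pos rfl, if_neg (Ne.symm hne), hsφ φ₁ hφ₁, hsφ φ hφ, ← hεz] at h
        simp at h
        have h' : ((εz * e (img ⟨φ₁, hφ₁⟩) - εz * e (img ⟨φ, hφ⟩) : ℤ) : ℂ) = ((r s : ℤ) : ℂ) := by
          push_cast; linear_combination h
        exact_mod_cast h'
      intro φ hφ θ hθ
      obtain rfl : θ = img ⟨φ, hφ⟩ := Subtype.ext hθ
      have h2 := hdiff φ₂ hφ₂ (Ne.symm h12)
      rw [← hav] at h2
      split_ifs with h
      · subst h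
        rw [show av + (r s : ℤ) = εz * e (img ⟨φ, hφ⟩) by linarith, hez]
      · have h3 := hdiff φ hφ h
        rw [add_zero, show av = εz * e (img ⟨φ, hφ⟩) by linarith, hez]
    set Im := (Finset.univ : Finset {φ // φ ∈ F1}).image img with hIm
    have hImcard : Im.card = q + 1 := by
      rw [hIm, Finset.card_image_of_injective _ himg, Finset.card_univ, Fintype.card_coe, hF1card]
    have hImsq : ∑ θ ∈ Im, e θ ^ 2 = (av + (r s : ℤ)) ^ 2 + (q : ℤ) * av ^ 2 := by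
      rw [hIm, Finset.sum_image fun x _ y _ h => himg h,
        Finset.sum_congr rfl fun (φ : {φ // φ ∈ F1}) _ => by rw [heimg φ.1 φ.2 (img φ) rfl]]
      rw [← Finset.add_sum_erase _ _ (Finset.mem_univ (⟨φ₁, hφ₁⟩ : {φ // φ ∈ F1})), if_pos rfl,
        Finset.sum_congr rfl (g := fun _ => av ^ 2) fun φ hφ => by
          rw [if_neg fun h => (Finset.mem_erase.1 hφ).1 (Subtype.ext h), add_zero]
          rcases hεz' with h | h <;> rw [h] <;> ring,
        Finset.sum_const, Finset.card_erase_of_mem (Finset.mem_univ _), Finset.card_univ, Fintype.card_coe,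
        hF1card, Nat.add_sub_cancel, nsmul_eq_mul]
      rcases hεz' with h | h <;> rw [h] <;> ring
    have hle : ∑ θ ∈ Im, e θ ^ 2 ≤ ∑ θ : Cfsg.IrrCharacter G, e θ ^ 2 :=
      Finset.sum_le_sum_of_subset_of_nonneg (Finset.subset_univ _) fun θ _ _ => sq_nonneg _
    refine ⟨av, e, ?_, heinner, heimg, hnormsum, hdeg0⟩
    rw [hImsq, hnormsum] at hle
    have hq4' : (4 : ℤ) ≤ q := by exact_mod_cast hq4
    have hrq : (r s : ℤ) = q ∨ 2 * (r s : ℤ) ≤ q := by
      rcases hrle s hs with h | h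
      · left; exact_mod_cast h
      · right; exact_mod_cast h
    have hr0 : (1 : ℤ) ≤ r s := by exact_mod_cast hrpos s hsS
    have hav0 : av = 0 ∨ av = -1 := by
      rcases lt_trichotomy av 0 with h | h | h
      · right
        by_contra hne
        have h2 : av ≤ -2 := by omega
        have h3 : ((q : ℤ) + 1) * av + 2 * r s ≤ -2 := by
          have := mul_le_mul_of_nonneg_left h2 (show (0 : ℤ) ≤ q + 1 by omega)
          omega
        have h4 : 4 ≤ ((q : ℤ) + 1) * av ^ 2 + 2 * r s * av := by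
          have := mul_nonneg (show (0 : ℤ) ≤ -2 - (((q : ℤ) + 1) * av + 2 * r s) by omega)
            (show (0 : ℤ) ≤ -av by omega)
          linarith only [this, h2]
        linarith only [h4, hle]
      · left; exact h
      · exfalso
        have h1 : 1 ≤ av ^ 2 := one_le_pow₀ (by omega : (1 : ℤ) ≤ av)
        have h3 := mul_le_mul_of_nonneg_left h1 (show (0 : ℤ) ≤ q + 1 by omega)
        have h4 := mul_nonneg (show (0 : ℤ) ≤ r s by omega) h.le
        linarith only [hle, h3, h4, hq4']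
    rcases hav0 with h0 | h0
    · exact Or.inl h0
    refine Or.inr ⟨h0, ?_⟩
    rcases hrq with h | h
    · exact_mod_cast h
    · exfalso
      rw [h0] at hle hImsq
      have h2r : 2 * (r s : ℤ) = q := by nlinarith
      have hout : ∀ θ ∉ Im, e θ = 0 := by
        intro θ hθ
        have hsplit := Finset.sum_add_sum_compl Im (fun θ => e θ ^ 2)
        rw [hImsq, hnormsum] at hsplit
        have hsq : ∑ θ ∈ Imᶜ, e θ ^ 2 = 0 := by nlinarith
        have := (Finset.sum_eq_zero_iff_of_nonneg fun θ _ => sq_nonneg (e θ)).1 hsq θ (Finset.mem_compl.2 hθ)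
        exact pow_eq_zero_iff two_ne_zero |>.1 this
      rw [← Finset.sum_subset (Finset.subset_univ Im) fun θ _ hθ => by rw [hout θ hθ]; simp, hIm,
        Finset.sum_image fun x _ y _ h => himg h,
        Finset.sum_congr rfl fun (φ : {φ // φ ∈ F1}) _ => by
          rw [heimg φ.1 φ.2 (img φ) rfl, show ((img φ : Cfsg.IrrCharacter G) : G → ℂ) 1 = ε * τ₁ φ.1 1 from rfl,
            hYdeg φ.1 φ.2, ← mul_assoc ε ε, hεε, one_mul],
        ← Finset.sum_mul, ← Int.cast_sum] at hdeg0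
      have hsum : ∑ φ : {φ // φ ∈ F1}, εz * (av + if φ.1 = φ₁ then (r s : ℤ) else 0) =
          εz * ((r s : ℤ) - (q + 1)) := by
        rw [← Finset.mul_sum, Finset.sum_add_distrib, Finset.sum_const, Finset.card_univ, Fintype.card_coe,
          hF1card, Finset.sum_eq_single (⟨φ₁, hφ₁⟩ : {φ // φ ∈ F1})
            (fun φ _ hne => if_neg fun h => hne (Subtype.ext h)) (fun h => absurd (Finset.mem_univ _) h),
          if_pos rfl, h0, nsmul_eq_mul]
        push_cast; ring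
      rw [hsum] at hdeg0
      rcases mul_eq_zero.1 hdeg0 with h' | h'
      · rw [Int.cast_eq_zero] at h'
        rcases hεz' with h'' | h'' <;> rw [h''] at h' <;> omega
      · rw [Nat.cast_eq_zero] at h'; omega
  choose! av e hav he heimg henorm hedeg using hΓ
  -- multiplicities in the restriction
  have hc2 : ∀ s ∈ F2, (c s : ℤ) = (r s : ℤ) * A - εz * av s := by
    intro s hs
    have h := he s hs ⟨X, hX⟩
    rw [hrestr X (IsIrr.isClassFunction hX), classInner_sub_right, classInner_smul_right, map_natCast,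
      hcinner φ₁ (hF1S hφ₁), hcinner s (Finset.mem_sdiff.1 hs).1, heimg s hs φ₁ hφ₁ ⟨X, hX⟩ rfl, if_pos rfl] at h
    have h' : ((r s : ℤ) * c φ₁ - c s : ℤ) = εz * (av s + r s) := by
      have : (((r s : ℤ) * c φ₁ - c s : ℤ) : ℂ) = ((εz * (av s + r s) : ℤ) : ℂ) := by
        push_cast at h ⊢; linear_combination h
      exact_mod_cast this
    rw [hcA1] at h'
    linear_combination -h'
  have hXdeg : f = d * ∑ s ∈ Sf, c s * r s := by
    have h := hcX 1
    rw [show ((1 : N) : G) = 1 from rfl, hf, Finset.sum_congr rfl fun s hs => by rw [hr s hs]] at h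
    have h' : (f : ℂ) = ((d * ∑ s ∈ Sf, c s * r s : ℕ) : ℂ) := by
      rw [h]; push_cast; rw [Finset.mul_sum]; exact Finset.sum_congr rfl fun s _ => by ring
    exact_mod_cast h'
  have hineq : ((q : ℤ) ^ 3) * ((∑ s ∈ Sf, (c s : ℤ) ^ 2) - 1) < d * (∑ s ∈ Sf, (c s : ℤ) * r s) ^ 2 := by
    have hb := K.norm_bound hX (f := (f : ℝ)) (by rw [hf, Complex.ofReal_natCast]) (by exact_mod_cast hfpos)
    have hsum : ∑ x ∈ Finset.univ.filter (· ∈ H), Complex.normSq (X x) =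
        ((q ^ 3 * d * ∑ s ∈ Sf, c s ^ 2 : ℕ) : ℝ) := by
      have h1 := hcnorm
      rw [Cfsg.classInner, inv_mul_eq_iff_eq_mul₀ (Nat.cast_ne_zero.2 Nat.card_pos.ne'), hNcard] at h1
      have h2 := congrArg Complex.re h1
      rw [← Nat.cast_mul, Complex.natCast_re, Complex.re_sum] at h2
      rw [← h2, ← Finset.sum_filter_add_sum_filter_not Finset.univ (fun x : N => (x : G) ∈ H) _,
        Finset.sum_eq_zero (s := Finset.univ.filter fun x : N => ¬ (x : G) ∈ H) (fun x hx => by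
          rw [hcX x, Finset.sum_eq_zero fun s hs => ?_]
          · simp
          · rw [member_eq_zero hC' ((hmemS s).1 hs) fun h => (Finset.mem_filter.1 hx).2 (Subgroup.mem_subgroupOf.1 h),
              mul_zero]), add_zero]
      refine (Finset.sum_bij (fun (x : N) _ => (x : G)) (fun x hx => Finset.mem_filter.2 ⟨Finset.mem_univ _,
        (Finset.mem_filter.1 hx).2⟩) (fun x _ y _ h => Subtype.ext h)
        (fun x hx => ⟨⟨x, hHN (Finset.mem_filter.1 hx).2⟩, Finset.mem_filter.2 ⟨Finset.mem_univ _,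
          (Finset.mem_filter.1 hx).2⟩, rfl⟩) fun x _ => ?_).symm
      rw [Complex.mul_conj, Complex.ofReal_re]
    rw [hsum, hnΩ, hGc] at hb
    have hb' : ((q : ℤ) ^ 3 + 1) * ((q : ℤ) ^ 3 * d * (∑ s ∈ Sf, (c s : ℤ) ^ 2) - (f : ℤ) ^ 2) <
        ((q : ℤ) ^ 3 + 1) * ((q : ℤ) ^ 3 * d) := by
      push_cast at hb
      exact_mod_cast hb
    have hb'' := lt_of_mul_lt_mul_left hb' (by positivity)
    rw [hXdeg] at hb''
    push_cast at hb''
    have hd0 : (0 : ℤ) < d := by exact_mod_cast (show 0 < d by omega)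
    refine lt_of_mul_lt_mul_left ?_ hd0.le
    linear_combination hb''
  have hsum1 : ∀ g : ℤ → ℤ, ∑ φ ∈ F1, g (c φ) = g ((A : ℤ) + εz) + (q : ℤ) * g A := by
    intro g
    rw [← Finset.add_sum_erase _ _ hφ₁, hcA1,
      Finset.sum_congr rfl (g := fun _ => g (A : ℤ)) fun φ hφ => by
        rw [hcA φ (Finset.mem_erase.1 hφ).2 (Finset.mem_erase.1 hφ).1],
      Finset.sum_const, Finset.card_erase_of_mem hφ₁, hF1card, Nat.add_sub_cancel, nsmul_eq_mul]
  have hS1 : ∑ φ ∈ F1, (c φ : ℤ) * r φ = (A : ℤ) + εz + q * A := by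
    rw [Finset.sum_congr rfl (g := fun φ => (c φ : ℤ)) fun φ hφ => by rw [hr1 φ hφ]; simp]
    exact hsum1 id
  have hQ1 : ∑ φ ∈ F1, (c φ : ℤ) ^ 2 = ((A : ℤ) + εz) ^ 2 + q * (A : ℤ) ^ 2 := hsum1 (· ^ 2)
  have hq4' : (4 : ℤ) ≤ q := by exact_mod_cast hq4
  have hdq' : (d : ℤ) = q - 1 := by rw [← hdq]; push_cast; ring
  have hcnn : 0 ≤ (A : ℤ) + εz := hcA1 ▸ Int.natCast_nonneg _
  have hA0' : (0 : ℤ) ≤ A := Int.natCast_nonneg _
  by_cases hk : ∃ s ∈ F2, av s = -1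
  swap
  · -- no exceptional member: `X` restricts to `φ₁`
    push Not at hk
    have hav0 : ∀ s ∈ F2, av s = 0 := fun s hs => (hav s hs).resolve_right fun h => hk s hs h.1
    have hc2' : ∀ s ∈ F2, (c s : ℤ) = (r s : ℤ) * A := fun s hs => by rw [hc2 s hs, hav0 s hs]; ring
    have hS2 : ∑ s ∈ F2, (c s : ℤ) * r s = (A : ℤ) * (q : ℤ) ^ 2 := by
      rw [Finset.sum_congr rfl (g := fun s => (A : ℤ) * (r s : ℤ) ^ 2) fun s hs => by rw [hc2' s hs]; ring,
        ← Finset.mul_sum]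
      congr 1
      exact_mod_cast hsum2
    have hQ2 : ∑ s ∈ F2, (c s : ℤ) ^ 2 = (A : ℤ) ^ 2 * (q : ℤ) ^ 2 := by
      rw [Finset.sum_congr rfl (g := fun s => (A : ℤ) ^ 2 * (r s : ℤ) ^ 2) fun s hs => by rw [hc2' s hs]; ring,
        ← Finset.mul_sum]
      congr 1
      exact_mod_cast hsum2
    rw [← Finset.sum_sdiff hF1S, ← Finset.sum_sdiff hF1S, ← hF2, hS1, hQ1, hS2, hQ2, hdq'] at hineq
    have hkey : εz = 1 ∧ A = 0 := by
      rcases hεz' with h | h <;> rw [h] at hineq hcnn ⊢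
      · refine ⟨rfl, ?_⟩
        by_contra hne
        have h1 : (1 : ℤ) ≤ A := by exact_mod_cast Nat.one_le_iff_ne_zero.2 hne
        nlinarith [mul_le_mul_of_nonneg_left h1 (show (0:ℤ) ≤ A by omega)]
      · exfalso
        have h1 : (1 : ℤ) ≤ A := by omega
        nlinarith [mul_le_mul_of_nonneg_left h1 (show (0:ℤ) ≤ A by omega)]
    have hczero : ∀ s ∈ Sf, s ≠ φ₁ → c s = 0 := by
      intro s hs hne
      by_cases h1 : s ∈ F1
      · rw [hcA s h1 hne, hkey.2]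
      · have := hc2' s (Finset.mem_sdiff.2 ⟨hs, h1⟩)
        rw [hkey.2] at this
        simpa using this
    have hcone : c φ₁ = 1 := by
      have := hcA1; rw [hkey.1, hkey.2] at this; simpa using this
    have hXN : ∀ x : N, X x = φ₁ x := by
      intro x
      rw [hcX x, Finset.sum_eq_single φ₁ (fun s hs hne => by rw [hczero s hs hne]; simp)
        (fun h => absurd (hF1S hφ₁) h), hcone, Nat.cast_one, one_mul]
    have hfd : f = d := by
      have h := hXN 1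
      rw [show ((1 : N) : G) = 1 from rfl, hf, hr φ₁ (hF1S hφ₁), hr1 φ₁ hφ₁, mul_one] at h
      exact_mod_cast h
    obtain ⟨z, hz, hz1⟩ : ∃ z ∈ A', z ≠ 1 := by
      by_contra hno
      push Not at hno
      rw [(Subgroup.eq_bot_iff_forall A').2 hno, Subgroup.relIndex_bot_left, hK'card] at hA'idx
      nlinarith
    have hzK : z ∈ K' := Subgroup.commutator_le_self K' hz
    obtain ⟨θ, hθ, -, hker, hθeq⟩ := (hmem1 φ₁).1 hφ₁
    have hφz : φ₁ z = φ₁ 1 := by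
      rw [hθeq]
      exact (Exceptional.ker_iff_indFun A' K' (Subgroup.commutator_le_self K') (IsIrr.isCharacter hθ)).1 hker z hz
    have hzker : (z : G) ∈ CfsgLib.CharDegree.kerSubgroup ⟨X, hX⟩ := by
      rw [CfsgLib.CharDegree.mem_kerSubgroup]
      exact (hXN z).trans (hφz.trans (hXN 1).symm)
    haveI := CfsgLib.CharDegree.kerSubgroup_normal (⟨X, hX⟩ : Cfsg.IrrCharacter G)
    have htop : CfsgLib.CharDegree.kerSubgroup (⟨X, hX⟩ : Cfsg.IrrCharacter G) = ⊤ :=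
      (Subgroup.Normal.eq_bot_or_eq_top ‹_›).resolve_left fun h =>
        hz1 (Subtype.ext (Subgroup.mem_bot.1 (h ▸ hzker)))
    have hconst : ∀ g : G, X g = (f : ℂ) := fun g => by
      rw [← hf]
      exact CfsgLib.CharDegree.mem_kerSubgroup.1 (htop ▸ Subgroup.mem_top g)
    have hnorm := classInner_self_of_irr hX
    simp only [Cfsg.classInner, hconst, map_natCast, Finset.sum_const, Finset.card_univ, nsmul_eq_mul,
      ← Nat.card_eq_fintype_card] at hnorm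
    rw [← mul_assoc, inv_mul_cancel₀ (Nat.cast_ne_zero.2 Nat.card_pos.ne'), one_mul] at hnorm
    have : f * f = 1 := by exact_mod_cast hnorm
    have := Nat.eq_one_of_mul_eq_one_right (m := f) this
    omega
  -- an exceptional member `ψ` of degree `q d`
  obtain ⟨ψ, hψ, hψav⟩ := hk
  have hψr : r ψ = q := (hav ψ hψ).elim (fun h => by omega) fun h => h.2
  have hF2eq : F2 = {ψ} := by
    refine Finset.eq_singleton_iff_unique_mem.2 ⟨hψ, fun s hs => ?_⟩
    by_contra hne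
    have h := Finset.sum_le_sum_of_subset (f := fun s => r s ^ 2) (s := {ψ, s}) (t := F2)
      (Finset.insert_subset hψ (Finset.singleton_subset_iff.2 hs))
    rw [Finset.sum_pair (Ne.symm hne), hsum2, hψr] at h
    have := Nat.one_le_pow 2 (r s) (hrpos s (Finset.mem_sdiff.1 hs).1)
    omega
  have hcψ : (c ψ : ℤ) = (q : ℤ) * A + εz := by rw [hc2 ψ hψ, hψr, hψav]; ring
  rw [← Finset.sum_sdiff hF1S, ← Finset.sum_sdiff hF1S, ← hF2, hF2eq, Finset.sum_singleton,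
    Finset.sum_singleton, hS1, hQ1, hcψ, hψr, hdq'] at hineq
  have hkey : εz = 1 ∧ A = 0 := by
    rcases hεz' with h | h <;> rw [h] at hineq hcnn ⊢
    · refine ⟨rfl, ?_⟩
      by_contra hne
      have h1 : (1 : ℤ) ≤ A := by exact_mod_cast Nat.one_le_iff_ne_zero.2 hne
      nlinarith [mul_le_mul_of_nonneg_left h1 (show (0:ℤ) ≤ A by omega)]
    · exfalso
      have h1 : (1 : ℤ) ≤ A := by omega
      rcases (show (A : ℤ) = 1 ∨ 2 ≤ (A : ℤ) by omega) with h2 | h2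
      · rw [h2] at hineq; nlinarith
      · nlinarith [mul_le_mul_of_nonneg_left h2 (show (0:ℤ) ≤ A by omega)]
  obtain ⟨hεone, hAzero⟩ := hkey
  have hε1 : ε = 1 := by rw [← hεz, hεone, Int.cast_one]
  have hfval : f = (q + 1) * d := by
    have h := hXdeg
    rw [← Finset.sum_sdiff hF1S, ← hF2, hF2eq, Finset.sum_singleton] at h
    have h1 : c ψ = 1 := by
      have := hcψ; rw [hεone, hAzero] at this; simpa using this
    have h2 : ∑ φ ∈ F1, c φ * r φ = 1 := by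
      have := hS1; rw [hεone, hAzero] at this; push_cast at this; simp at this; exact_mod_cast this
    rw [h, h1, h2, hψr]; ring
  -- a character with odd degree and odd coefficient
  let img : {φ // φ ∈ F1} → Cfsg.IrrCharacter G := fun φ => ⟨ε • τ₁ φ.1, hYirr φ.1 ((hmem1 _).1 φ.2)⟩
  have himg : Function.Injective img := fun φ φ' h =>
    Subtype.ext (hYinj φ.1 φ.2 φ'.1 φ'.2 (congrArg Subtype.val h))
  set Im := (Finset.univ : Finset {φ // φ ∈ F1}).image img with hIm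
  let dg : Cfsg.IrrCharacter G → ℕ := fun θ => Cfsg.charDegree (θ : G → ℂ)
  have hdg : ∀ θ : Cfsg.IrrCharacter G, (θ : G → ℂ) 1 = (dg θ : ℂ) := fun θ =>
    (CfsgLib.CharDegree.cast_irrDegree θ).symm
  have hdgimg : ∀ φ, dg (img φ) = f := by
    intro φ
    have h := hdg (img φ)
    rw [show ((img φ : Cfsg.IrrCharacter G) : G → ℂ) 1 = ε * τ₁ φ.1 1 from rfl, hYdeg φ.1 φ.2,
      ← mul_assoc, hεε, one_mul] at h
    exact_mod_cast h.symm
  have heI : ∀ φ : {φ // φ ∈ F1}, e ψ (img φ) = -1 + if φ.1 = φ₁ then (q : ℤ) else 0 := by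
    intro φ
    rw [heimg ψ hψ φ.1 φ.2 (img φ) rfl, hεone, hψav, hψr, one_mul]
  have hImdeg : ∑ θ ∈ Im, e ψ θ * (dg θ : ℤ) = -(f : ℤ) := by
    rw [hIm, Finset.sum_image fun x _ y _ h => himg h,
      Finset.sum_congr rfl fun φ _ => by rw [hdgimg φ, heI φ], ← Finset.sum_mul, Finset.sum_add_distrib,
      Finset.sum_const, Finset.card_univ, Fintype.card_coe, hF1card,
      Finset.sum_eq_single (⟨φ₁, hφ₁⟩ : {φ // φ ∈ F1})
        (fun φ _ hne => if_neg fun h => hne (Subtype.ext h)) (fun h => absurd (Finset.mem_univ _) h),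
      if_pos rfl, nsmul_eq_mul]
    push_cast; ring
  have hImsq : ∑ θ ∈ Im, e ψ θ ^ 2 = ((q : ℤ) - 1) ^ 2 + q := by
    rw [hIm, Finset.sum_image fun x _ y _ h => himg h,
      ← Finset.add_sum_erase _ _ (Finset.mem_univ (⟨φ₁, hφ₁⟩ : {φ // φ ∈ F1})), heI, if_pos rfl,
      Finset.sum_congr rfl (g := fun _ => (1 : ℤ)) fun φ hφ => by
        rw [heI φ, if_neg fun h => (Finset.mem_erase.1 hφ).1 (Subtype.ext h)]; ring,
      Finset.sum_const, Finset.card_erase_of_mem (Finset.mem_univ _), Finset.card_univ, Fintype.card_coe,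
      hF1card, Nat.add_sub_cancel, nsmul_eq_mul]
    ring
  have hrest : ∑ θ ∈ Imᶜ, e ψ θ * (dg θ : ℤ) = (f : ℤ) := by
    have h0 : (∑ θ : Cfsg.IrrCharacter G, e ψ θ * (dg θ : ℤ)) = 0 := by
      have h := hedeg ψ hψ
      simp only [hdg] at h
      exact_mod_cast h
    rw [← Finset.sum_add_sum_compl Im, hImdeg] at h0
    linarith
  have hrestsq : ∑ θ ∈ Imᶜ, e ψ θ ^ 2 = (q : ℤ) := by
    have h := henorm ψ hψ
    rw [← Finset.sum_add_sum_compl Im, hImsq, hψr] at h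
    linarith
  have hqeven : Even q := hq ▸ Nat.even_pow.2 ⟨even_two, by have := K.two_le; omega⟩
  have hfodd : Odd (f : ℤ) := by
    rw [hfval, Int.odd_coe_nat]
    exact (hqeven.add_one).mul (by rw [Nat.odd_iff]; rw [Nat.even_iff] at hqeven; omega)
  obtain ⟨θ, hθIm, hθodd⟩ : ∃ θ ∈ Imᶜ, Odd (e ψ θ * (dg θ : ℤ)) := by
    by_contra hno
    push Not at hno
    have hev : Even (∑ θ ∈ Imᶜ, e ψ θ * (dg θ : ℤ)) :=
      even_iff_two_dvd.2 (Finset.dvd_sum fun θ hθ => even_iff_two_dvd.1 (Int.not_odd_iff_even.1 (hno θ hθ)))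
    rw [hrest] at hev
    exact Int.not_even_iff_odd.2 hfodd hev
  obtain ⟨heodd, hdgodd⟩ := Int.odd_mul.1 hθodd
  have hesq : (e ψ θ) ^ 2 ≤ (q : ℤ) :=
    hrestsq ▸ Finset.single_le_sum (f := fun θ => e ψ θ ^ 2) (fun _ _ => sq_nonneg _) hθIm
  have hne_img : ∀ φ ∈ F1, (θ : G → ℂ) ≠ ε • τ₁ φ := fun φ hφ h =>
    Finset.mem_compl.1 hθIm (Finset.mem_image.2 ⟨⟨φ, hφ⟩, Finset.mem_univ _, Subtype.ext h.symm⟩)
  have hθsum : ∑ u : H, (θ : G → ℂ) u = 0 := by
    by_contra hS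
    have hmem : ((r ψ : ℂ) • φ₁ - ψ) ∈ Cfsg.zspanOn (Cfsg.inducedIrrAbove K' ⊥) ({1}ᶜ : Set N) := by
      refine ⟨(Submodule.span ℤ _).sub_mem (natCast_smul_mem_zspan _ (mem_zspan_self ((hmemS φ₁).1 (hF1S hφ₁))))
        (mem_zspan_self ((hmemS ψ).1 (Finset.mem_sdiff.1 hψ).1)), fun x hx => ?_⟩
      simp only [Set.mem_compl_iff, Set.mem_singleton_iff, not_not] at hx
      subst hx
      rw [Pi.sub_apply, Pi.smul_apply, smul_eq_mul, hr φ₁ (hF1S hφ₁), hr ψ (Finset.mem_sdiff.1 hψ).1, hr1 φ₁ hφ₁]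
      push_cast; ring
    have h := hzero θ θ.2 hS _ hmem
    rw [he ψ hψ θ, Int.cast_eq_zero] at h
    rw [h] at heodd
    simp at heodd
  obtain ⟨ct, hctX, hctinner, -⟩ := hexpand θ θ.2 hθsum
  have hct1 : ∀ φ ∈ F1, ct φ = ct φ₁ := by
    intro φ hφ
    have h : Cfsg.classInner (θ : G → ℂ) (τ (φ₁ - φ)) = 0 := by
      rw [hτdiff φ₁ hφ₁ φ hφ, classInner_sub_right, hYinner θ θ.2 φ₁ hφ₁, hYinner θ θ.2 φ hφ,
        if_neg (hne_img φ₁ hφ₁), if_neg (hne_img φ hφ), sub_zero]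
    rw [hrestr _ (IsIrr.isClassFunction θ.2), classInner_sub_right, hctinner φ₁ (hF1S hφ₁),
      hctinner φ (hF1S hφ), sub_eq_zero, Nat.cast_inj] at h
    exact h.symm
  have hctψ : (ct ψ : ℤ) = (q : ℤ) * ct φ₁ - e ψ θ := by
    have h := he ψ hψ θ
    rw [hrestr _ (IsIrr.isClassFunction θ.2), classInner_sub_right, classInner_smul_right, map_natCast,
      hctinner φ₁ (hF1S hφ₁), hctinner ψ (Finset.mem_sdiff.1 hψ).1, hψr] at h
    have h' : ((q : ℤ) * ct φ₁ - ct ψ : ℤ) = e ψ θ := by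
      have : (((q : ℤ) * ct φ₁ - ct ψ : ℤ) : ℂ) = ((e ψ θ : ℤ) : ℂ) := by push_cast; exact h
      exact_mod_cast this
    linarith
  have hθdeg : dg θ = d * ((q + 1) * ct φ₁ + q * ct ψ) := by
    have h := hctX 1
    rw [show ((1 : N) : G) = 1 from rfl, hdg θ, Finset.sum_congr rfl fun s hs => by rw [hr s hs],
      ← Finset.sum_sdiff hF1S, ← hF2, hF2eq, Finset.sum_singleton, hψr,
      Finset.sum_congr rfl (g := fun _ => ((ct φ₁ * d : ℕ) : ℂ)) fun φ hφ => by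
        rw [hct1 φ hφ, hr1 φ hφ, mul_one, Nat.cast_mul],
      Finset.sum_const, hF1card, nsmul_eq_mul] at h
    have h' : ((dg θ : ℕ) : ℂ) = ((d * ((q + 1) * ct φ₁ + q * ct ψ) : ℕ) : ℂ) := by
      rw [h]; push_cast; ring
    exact_mod_cast h'
  set D := (q + 1) * ct φ₁ + q * ct ψ with hD
  have hDodd : Odd D := by
    rw [hθdeg, Int.odd_coe_nat] at hdgodd
    exact (Nat.odd_mul.1 hdgodd).2
  have hDdvd : D ∣ q ^ 3 + 1 := by
    have h : dg θ ∣ Nat.card G := CfsgLib.CharDegree.charDegree_dvd_card θ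
    rw [hθdeg, hGc, show (q ^ 3 + 1) * (q ^ 3 * d) = d * ((q ^ 3 + 1) * q ^ 3) by ring] at h
    have h2 := Nat.dvd_of_mul_dvd_mul_left (show 0 < d by omega) h
    refine (Nat.Coprime.pow_right 3 ?_).dvd_of_dvd_mul_right h2
    rw [hq]
    exact Nat.Coprime.pow_right m (Nat.coprime_two_right.2 hDodd)
  obtain ⟨k, hk⟩ := hDdvd
  refine cube_false (q := (q : ℤ)) (e := e ψ θ) (a := (ct φ₁ : ℤ)) (D := (D : ℤ)) (k := (k : ℤ)) hq4'
    ((Int.even_coe_nat q).2 hqeven) hesq heodd (Int.natCast_nonneg _) ?_ ((Int.odd_coe_nat D).2 hDodd) ?_ ?_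
  · rw [hD]; push_cast; rw [hctψ]; ring
  · have : ((k * D : ℕ) : ℤ) = ((q ^ 3 + 1 : ℕ) : ℤ) := by rw [hk, mul_comm]
    push_cast at this; exact this
  · exact_mod_cast hDodd.pos

end CfsgLib.PGroups.SuzukiZass
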