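import Mathlib
import Cfsg.Agent.Lib.PGroups.SuzukiZass.Setting
import Cfsg.Agent.Lib.PGroups.SuzukiZass.Arith
import Cfsg.Agent.Lib.Core.FPF
import Cfsg.Agent.Lib.Core.Basic

/-! The tori of fixed-point-free strongly real elements of a Zassenhaus group whose kernel is a
Suzuki 2-group of order `q²`, and the oddness of `log q`. -/

set_option autoImplicit false
set_option linter.all false

open Cfsg
open CfsgLib.Char.Exceptional
open scoped Pointwise

namespace CfsgLib.PGroups.SuzukiZass

variable {G Ω : Type*} [Group G] [Finite G] [MulAction G Ω] [Fintype Ω] [IsSimpleGroup G]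
variable {H : Subgroup G} {a b : Ω} {m : ℕ}

/-- `x` moves every point and is inverted by an involution. -/
def Strong (Ω : Type*) {G : Type*} [Group G] [MulAction G Ω] (x : G) : Prop :=
  (∀ c : Ω, x • c ≠ c) ∧ ∃ t : G, orderOf t = 2 ∧ t * x * t = x⁻¹

theorem mul_self_of_order_two {t : G} (ht : orderOf t = 2) : t * t = 1 := by
  rw [← pow_two, ← ht, pow_orderOf_eq_one]

theorem Kern.exists_fixed (K : Kern H a b m) {t : G} (ht : orderOf t = 2) :
    ∃ c : Ω, t • c = c ∧ ∀ p : Ω, t • p = p → p = c := by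
  classical
  have h := zass_involution_fix_card K.zass K.ne K.odd ht
  rw [K.odd_degree, Finset.card_eq_one] at h
  obtain ⟨c, hc⟩ := h
  exact ⟨c, (Finset.mem_filter.1 (hc.ge (Finset.mem_singleton_self c))).2,
    fun p hp => Finset.mem_singleton.1 (hc.le (Finset.mem_filter.2 ⟨Finset.mem_univ _, hp⟩))⟩

theorem Kern.strong_ne_one (K : Kern H a b m) {x : G} (hx : ∀ c : Ω, x • c ≠ c) : x ≠ 1 :=
  fun h => hx a (by rw [h, one_smul])

/-- Whatever commutes with a fixed-point-free element and is not `1` is fixed-point-free. -/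
theorem Kern.fpf_of_commute (K : Kern H a b m) {x y : G} (hx : ∀ c : Ω, x • c ≠ c) (hy : y ≠ 1)
    (hc : y * x = x * y) : ∀ c : Ω, y • c ≠ c := by
  intro c hyc
  have h1 : y • (x • c) = x • c := by rw [← mul_smul, hc, mul_smul, hyc]
  have h2 : y • (x • x • c) = x • x • c := by rw [← mul_smul, hc, mul_smul, h1]
  rcases zass_fix_two K.zass hy (Ne.symm (hx c)) hyc h1 h2 with h | h
  · have ho := zass_swap_orderOf K.zass (Ne.symm (hx c))
      (zass_card_two_stab K.zass K.ne (Ne.symm (hx c)) ▸ K.odd) (w := x) rfl h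
    obtain ⟨p, hp, -⟩ := K.exists_fixed ho
    exact hx p hp
  · exact hx _ h

theorem Kern.inv_of_strong (K : Kern H a b m) {x t : G} (hx : ∀ c : Ω, x • c ≠ c)
    (ht : orderOf t = 2) (hinv : t * x * t = x⁻¹) {y : G}
    (hy : y ∈ Subgroup.centralizer ({x} : Set G)) : t * y * t = y⁻¹ := by
  have htt := mul_self_of_order_two ht
  have hti : t⁻¹ = t := inv_eq_of_mul_eq_one_right htt
  set C := Subgroup.centralizer ({x} : Set G) with hC
  have hnorm : ∀ z ∈ C, t * z * t ∈ C := by
    intro z hz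
    have hz' : z * x⁻¹ = x⁻¹ * z :=
      (Commute.inv_right (Subgroup.mem_centralizer_singleton_iff.1 hz : Commute z x)).eq
    refine Subgroup.mem_centralizer_singleton_iff.2 ?_
    have hx' : x = t * x⁻¹ * t := by
      rw [← hinv]
      calc x = (t * t) * x * (t * t) := by rw [htt, one_mul, mul_one]
        _ = t * (t * x * t) * t := by group
    calc t * z * t * x = t * z * t * (t * x⁻¹ * t) := by rw [← hx']
      _ = t * z * (t * t) * x⁻¹ * t := by group
      _ = t * (z * x⁻¹) * t := by rw [htt]; group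
      _ = t * (x⁻¹ * z) * t := by rw [hz']
      _ = t * x⁻¹ * (t * t) * z * t := by rw [htt]; group
      _ = (t * x⁻¹ * t) * (t * z * t) := by group
      _ = x * (t * z * t) := by rw [← hx']
  let f : C → C := fun z => ⟨(z : G)⁻¹ * (t * z * t), mul_mem (inv_mem z.2) (hnorm z z.2)⟩
  have hinj : Function.Injective f := by
    intro y z h
    have h' : (y : G)⁻¹ * (t * y * t) = (z : G)⁻¹ * (t * z * t) := congrArg Subtype.val h
    set w := (z : G) * (y : G)⁻¹ with hw
    have hwt : w * t = t * w := by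
      calc w * t = (z : G) * ((y : G)⁻¹ * (t * y * t)) * t⁻¹ * (y : G)⁻¹ := by
            rw [hw]; group
        _ = (z : G) * ((z : G)⁻¹ * (t * z * t)) * t⁻¹ * (y : G)⁻¹ := by rw [h']
        _ = t * w := by rw [hw]; group
    by_contra hne
    have hw1 : w ≠ 1 := fun e => hne (Subtype.ext (mul_inv_eq_one.1 e).symm)
    obtain ⟨c, hc, hcu⟩ := K.exists_fixed ht
    refine K.fpf_of_commute hx hw1 (Subgroup.mem_centralizer_singleton_iff.1
      (mul_mem z.2 (inv_mem y.2))) c (hcu _ ?_)
    rw [← mul_smul, ← hwt, mul_smul, hc]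
  obtain ⟨u, hu⟩ := (Finite.injective_iff_surjective.1 hinj) ⟨y, hy⟩
  have hu' : y = (u : G)⁻¹ * (t * u * t) := (congrArg Subtype.val hu).symm
  rw [hu']
  calc t * ((u : G)⁻¹ * (t * u * t)) * t = t * (u : G)⁻¹ * t * u * (t * t) := by group
    _ = t * (u : G)⁻¹ * t * u := by rw [htt, mul_one]
    _ = ((u : G)⁻¹ * (t * u * t))⁻¹ := by rw [mul_inv_rev, mul_inv_rev, mul_inv_rev, inv_inv, hti]; simp [mul_assoc]

/-- The centraliser of a strongly real fixed-point-free element is abelian, and is the centraliser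
of each of its non-identity elements. -/
theorem Kern.centralizer_strong (K : Kern H a b m) {x : G} (hx : Strong Ω x) {y : G}
    (hy : y ∈ Subgroup.centralizer ({x} : Set G)) (hy1 : y ≠ 1) :
    Strong Ω y ∧ Subgroup.centralizer ({y} : Set G) = Subgroup.centralizer ({x} : Set G) := by
  obtain ⟨hxf, t, ht, hinv⟩ := hx
  have hab : ∀ {x : G}, (∀ c : Ω, x • c ≠ c) → t * x * t = x⁻¹ →
      ∀ u ∈ Subgroup.centralizer ({x} : Set G), ∀ v ∈ Subgroup.centralizer ({x} : Set G),
        u * v = v * u := by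
    intro x hxf hinv u hu v hv
    have h1 := K.inv_of_strong hxf ht hinv (mul_mem (inv_mem hu) (inv_mem hv))
    have h2 := K.inv_of_strong hxf ht hinv (inv_mem hu)
    have h3 := K.inv_of_strong hxf ht hinv (inv_mem hv)
    have h4 : t * (u⁻¹ * v⁻¹) * t = (t * u⁻¹ * t) * (t * v⁻¹ * t) := by
      calc t * (u⁻¹ * v⁻¹) * t = t * u⁻¹ * (t * t) * v⁻¹ * t := by
            rw [mul_self_of_order_two ht]; group
        _ = _ := by group
    rw [h1, h2, h3, mul_inv_rev, inv_inv, inv_inv] at h4
    exact h4.symm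
  have hyf := K.fpf_of_commute hxf hy1 (Subgroup.mem_centralizer_singleton_iff.1 hy)
  have hyinv := K.inv_of_strong hxf ht hinv hy
  refine ⟨⟨hyf, t, ht, hyinv⟩, le_antisymm (fun z hz => ?_) (fun z hz => ?_)⟩
  · refine Subgroup.mem_centralizer_singleton_iff.2 (hab hyf hyinv z hz x ?_)
    exact Subgroup.mem_centralizer_singleton_iff.2 (Subgroup.mem_centralizer_singleton_iff.1 hy).symm
  · exact Subgroup.mem_centralizer_singleton_iff.2 (hab hxf hinv z hz y hy)

/-- The tori. -/
def IsTorus (Ω : Type*) {G : Type*} [Group G] [MulAction G Ω] (A : Subgroup G) : Prop :=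
  ∃ x : G, Strong Ω x ∧ A = Subgroup.centralizer ({x} : Set G)

theorem Kern.torus_elt (K : Kern H a b m) {A : Subgroup G} (hA : IsTorus Ω A) {y : G} (hy : y ∈ A)
    (hy1 : y ≠ 1) : Strong Ω y ∧ Subgroup.centralizer ({y} : Set G) = A := by
  obtain ⟨x, hx, rfl⟩ := hA
  exact K.centralizer_strong hx hy hy1

theorem Kern.torus_ne_bot (K : Kern H a b m) {A : Subgroup G} (hA : IsTorus Ω A) :
    ∃ y ∈ A, y ≠ 1 := by
  obtain ⟨x, hx, rfl⟩ := hA
  exact ⟨x, Subgroup.mem_centralizer_singleton_iff.2 rfl, K.strong_ne_one hx.1⟩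

theorem IsTorus.conj {A : Subgroup G} (hA : IsTorus Ω A) (g : G) :
    IsTorus Ω (MulAut.conj g • A) := by
  obtain ⟨x, ⟨hxf, t, ht, hinv⟩, rfl⟩ := hA
  refine ⟨g * x * g⁻¹, ⟨fun c hc => hxf (g⁻¹ • c) ?_, g * t * g⁻¹, by rw [orderOf_conj_eq]; exact ht, ?_⟩, ?_⟩
  · have h := congrArg (g⁻¹ • ·) hc
    simp only [← mul_smul] at h
    rw [← mul_smul]
    simpa [mul_assoc] using h
  · calc g * t * g⁻¹ * (g * x * g⁻¹) * (g * t * g⁻¹) = g * (t * x * t) * g⁻¹ := by group
      _ = (g * x * g⁻¹)⁻¹ := by rw [hinv]; group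
  · ext y
    rw [CfsgLib.Core.mem_conj_smul_iff, Subgroup.mem_centralizer_singleton_iff,
      Subgroup.mem_centralizer_singleton_iff]
    constructor
    · intro h
      calc y * (g * x * g⁻¹) = g * (g⁻¹ * y * g * x) * g⁻¹ := by group
        _ = g * (x * (g⁻¹ * y * g)) * g⁻¹ := by rw [h]
        _ = g * x * g⁻¹ * y := by group
    · intro h
      calc g⁻¹ * y * g * x = g⁻¹ * (y * (g * x * g⁻¹)) * g := by group
        _ = g⁻¹ * (g * x * g⁻¹ * y) * g := by rw [h]
        _ = x * (g⁻¹ * y * g) := by group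

theorem Kern.torus_dvd (K : Kern H a b m) {A : Subgroup G} (hA : IsTorus Ω A) :
    Nat.card A ∣ Fintype.card Ω := by
  have hfree : ∀ c : Ω, MulAction.stabilizer A c = ⊥ := by
    intro c
    rw [Subgroup.eq_bot_iff_forall]
    intro y hy
    by_contra hy1
    exact (K.torus_elt hA y.2 fun h => hy1 (Subtype.ext h)).1.1 c hy
  rw [← Nat.card_eq_fintype_card, Nat.card_congr (MulAction.selfEquivOrbitsQuotientProd hfree),
    Nat.card_prod]
  exact dvd_mul_left _ _

/-- A prime dividing the orders of two tori makes them conjugate. -/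
theorem Kern.torus_conj (K : Kern H a b m) {A B : Subgroup G} (hA : IsTorus Ω A)
    (hB : IsTorus Ω B) {p : ℕ} (hp : p.Prime) (hpA : p ∣ Nat.card A) (hpB : p ∣ Nat.card B) :
    ∃ g : G, MulAut.conj g • A = B := by
  haveI := Fact.mk hp
  have key : ∀ {A : Subgroup G}, IsTorus Ω A → p ∣ Nat.card A →
      ∃ P : Sylow p G, (P : Subgroup G) ≤ A := by
    intro A hA hpA
    obtain ⟨y, hy⟩ := exists_prime_orderOf_dvd_card' p hpA
    have hy' : orderOf (y : G) = p := by rw [Subgroup.orderOf_coe, hy]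
    have hy1 : (y : G) ≠ 1 := fun h => by
      rw [h, orderOf_one] at hy'; exact hp.one_lt.ne hy'
    obtain ⟨P, hP⟩ := (IsPGroup.of_card (p := p) (n := 1)
      (by rw [Nat.card_zpowers, hy', pow_one] : Nat.card (Subgroup.zpowers (y : G)) = p ^ 1)).exists_le_sylow
    have hyP : (y : G) ∈ (P : Subgroup G) := hP (Subgroup.mem_zpowers _)
    haveI : Nontrivial (P : Subgroup G) := ⟨⟨⟨y, hyP⟩, 1, fun h => hy1 (congrArg Subtype.val h)⟩⟩
    haveI := P.isPGroup'.center_nontrivial
    obtain ⟨z, hz⟩ := exists_ne (1 : Subgroup.center (P : Subgroup G))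
    have hcomm : ∀ u ∈ (P : Subgroup G), ((z : (P : Subgroup G)) : G) * u = u * ((z : (P : Subgroup G)) : G) :=
      fun u hu => congrArg Subtype.val (Subgroup.mem_center_iff.1 z.2 ⟨u, hu⟩).symm
    have hzA : ((z : (P : Subgroup G)) : G) ∈ A := by
      rw [← (K.torus_elt hA y.2 hy1).2]
      exact Subgroup.mem_centralizer_singleton_iff.2 (hcomm _ hyP)
    refine ⟨P, fun u hu => ?_⟩
    rw [← (K.torus_elt hA hzA fun h => hz (Subtype.ext (Subtype.ext h))).2]
    exact Subgroup.mem_centralizer_singleton_iff.2 (hcomm u hu).symm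
  obtain ⟨P, hP⟩ := key hA hpA
  obtain ⟨Q, hQ⟩ := key hB hpB
  obtain ⟨g, hg⟩ := MulAction.exists_smul_eq G P Q
  refine ⟨g, ?_⟩
  obtain ⟨u, hu⟩ := exists_prime_orderOf_dvd_card' (G := (P : Subgroup G)) p
    (P.dvd_card_of_dvd_card (hpA.trans (Subgroup.card_subgroup_dvd_card A)))
  have hu1 : (u : G) ≠ 1 := fun h => by
    rw [← Subgroup.orderOf_coe, h, orderOf_one] at hu; exact hp.one_lt.ne hu
  have h1 : g * (u : G) * g⁻¹ ∈ MulAut.conj g • A := CfsgLib.Core.conj_mem_conj_smul (hP u.2)
  have h2 : g * (u : G) * g⁻¹ ∈ B := by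
    refine hQ ?_
    rw [← hg]
    exact CfsgLib.Core.conj_mem_conj_smul u.2
  have hne : g * (u : G) * g⁻¹ ≠ 1 := fun h => hu1 (conj_eq_one_iff.1 h)
  rw [← (K.torus_elt (hA.conj g) h1 hne).2, (K.torus_elt hB h2 hne).2]

/-- In a kernel of order `q²`, the normaliser of a torus `A` has order `2|A|` or `4|A|`. -/
theorem Kern.torus_normalizer (K : Kern H a b m) (hH2 : Nat.card H = (2 ^ m) ^ 2) {A : Subgroup G}
    (hA : IsTorus Ω A) :
    ∃ l, (l = 2 ∨ l = 4) ∧ Nat.card (Subgroup.normalizer (A : Set G)) = l * Nat.card A ∧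
      l ∣ Nat.card A - 1 := by
  classical
  haveI := zass_trans K.zass
  obtain ⟨x, ⟨hxf, t, ht, hinv⟩, rfl⟩ := hA
  set A := Subgroup.centralizer ({x} : Set G) with hAdef
  have hT : IsTorus Ω A := ⟨x, ⟨hxf, t, ht, hinv⟩, rfl⟩
  have htt := mul_self_of_order_two ht
  have hti : t⁻¹ = t := inv_eq_of_mul_eq_one_right htt
  set N := Subgroup.normalizer (A : Set G) with hN
  have htinv : ∀ y ∈ A, t * y * t = y⁻¹ := fun y hy => K.inv_of_strong hxf ht hinv hy
  have htN : t ∈ N := Subgroup.mem_set_normalizer_iff.2 fun y => by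
    constructor
    · intro hy
      rw [hti, SetLike.mem_coe, htinv y hy]
      exact inv_mem hy
    · intro hy
      rw [SetLike.mem_coe] at hy ⊢
      rw [hti] at hy
      have h := htinv _ hy
      rw [show y = t * (t * y * t) * t by
        calc y = t * t * y * (t * t) := by rw [htt, one_mul, mul_one]
          _ = _ := by group, h]
      exact inv_mem hy
  set W := N ⊓ Subgroup.centralizer ({t} : Set G) with hW
  -- the only involution of `W` is `t`
  have hWinv : ∀ s ∈ W, orderOf s = 2 → s = t := by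
    intro s hs hs2
    have hss := mul_self_of_order_two hs2
    have hsi : s⁻¹ = s := inv_eq_of_mul_eq_one_right hss
    have hsinv : s * x * s = x⁻¹ := by
      have hxA : x ∈ A := Subgroup.mem_centralizer_singleton_iff.2 rfl
      have hmem : ∀ y ∈ A, s * y * s ∈ A := fun y hy => by
        have := (Subgroup.mem_set_normalizer_iff.1 hs.1 y).1 hy
        rwa [hsi] at this
      set w := x * (s * x * s) with hw
      have hws : s * w = w * s := by
        have hcm : x * (s * x * s) = (s * x * s) * x :=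
          (Subgroup.mem_centralizer_singleton_iff.1 (hmem x hxA)).symm
        calc s * w = s * ((s * x * s) * x) := by rw [hw, hcm]
          _ = (s * s) * x * s * x := by group
          _ = x * s * x * (s * s) := by rw [hss]; group
          _ = w * s := by rw [hw]; group
      by_contra hne
      have hw1 : w ≠ 1 := fun e => hne (eq_inv_of_mul_eq_one_right e)
      obtain ⟨c, hc, hcu⟩ := K.exists_fixed hs2
      exact (K.torus_elt hT (mul_mem hxA (hmem x hxA)) hw1).1.1 c
        (hcu _ (by rw [← mul_smul, hws, mul_smul, hc]))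
    have hstA : s * t ∈ A := by
      refine Subgroup.mem_centralizer_singleton_iff.2 ?_
      have h1 : t * x = x⁻¹ * t := by
        calc t * x = t * x * (t * t) := by rw [htt, mul_one]
          _ = t * x * t * t := by group
          _ = x⁻¹ * t := by rw [hinv]
      have h2 : s * x⁻¹ = x * s := by
        calc s * x⁻¹ = s * (s * x * s) := by rw [hsinv]
          _ = s * s * x * s := by group
          _ = x * s := by rw [hss, one_mul]
      calc s * t * x = s * (t * x) := by group
        _ = s * x⁻¹ * t := by rw [h1, mul_assoc]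
        _ = x * (s * t) := by rw [h2, mul_assoc]
    by_contra hne
    have hne' : s * t ≠ 1 := fun e => hne (by rw [eq_inv_of_mul_eq_one_left e, hti])
    have hcomm : t * s = s * t := (Subgroup.mem_centralizer_singleton_iff.1 hs.2).symm
    obtain ⟨c, hc, hcu⟩ := K.exists_fixed ht
    have hsc : s • c = c := hcu _ (by rw [← mul_smul, hcomm, mul_smul, hc])
    exact (K.torus_elt hT hstA hne').1.1 c (by rw [mul_smul, hc, hsc])
  -- `W` is conjugate into the kernel
  obtain ⟨c, hc, hcu⟩ := K.exists_fixed ht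
  obtain ⟨g, hg⟩ := MulAction.exists_smul_eq G c a
  have hgt : g * t * g⁻¹ ∈ H := by
    refine zass_mem_kernel K.zass K.le K.card K.fix ?_ fun p hp => ?_
    · rw [mul_smul, mul_smul, ← hg, inv_smul_smul, hc]
    · rw [mul_smul, mul_smul, smul_eq_iff_eq_inv_smul] at hp
      rw [← hg, ← hcu _ hp, smul_inv_smul]
  have hgt1 : g * t * g⁻¹ ≠ 1 := fun e => by
    rw [conj_eq_one_iff.1 e, orderOf_one] at ht; omega
  have hWH : ∀ w ∈ W, g * w * g⁻¹ ∈ H := fun w hw =>
    K.centralizer_le hgt hgt1 (Subgroup.mem_centralizer_singleton_iff.2 (by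
      calc g * w * g⁻¹ * (g * t * g⁻¹) = g * (w * t) * g⁻¹ := by group
        _ = g * (t * w) * g⁻¹ := by rw [Subgroup.mem_centralizer_singleton_iff.1 hw.2]
        _ = g * t * g⁻¹ * (g * w * g⁻¹) := by group))
  have hW2 : ∀ w ∈ W, w * w = 1 ∨ w * w = t := by
    intro w hw
    by_contra h
    push Not at h
    refine h.2 (hWinv _ (mul_mem hw hw) (orderOf_eq_prime ?_ h.1))
    have := K.sq_inv _ (hWH w hw)
    rw [show g * w * g⁻¹ * (g * w * g⁻¹) * (g * w * g⁻¹ * (g * w * g⁻¹)) = g * (w * w * (w * w)) * g⁻¹ by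
      group, conj_eq_one_iff] at this
    rw [pow_two, this]
  have hW1 : ∀ w ∈ W, w * w = 1 → w = 1 ∨ w = t := fun w hw h =>
    or_iff_not_imp_left.2 fun hw1 => hWinv w hw (orderOf_eq_prime (by rw [pow_two, h]) hw1)
  have htW : t ∈ W := ⟨htN, Subgroup.mem_centralizer_singleton_iff.2 rfl⟩
  have hWcard : Nat.card W ∣ 4 ∧ 2 ∣ Nat.card W := by
    refine ⟨?_, ht ▸ Subgroup.orderOf_dvd_natCard W htW⟩
    have hP : IsPGroup 2 W := IsPGroup.iff_orderOf.2 fun w => by
      obtain ⟨k, -, hk⟩ := (Nat.dvd_prime_pow Nat.prime_two).1 (show orderOf w ∣ 2 ^ 2 from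
        orderOf_dvd_iff_pow_eq_one.2 (Subtype.ext (by
          show (w : G) ^ (2 ^ 2) = 1
          rw [show (2 : ℕ) ^ 2 = 2 + 2 by norm_num, pow_add, pow_two]
          rcases hW2 w w.2 with h | h <;> rw [h]
          · rw [one_mul]
          · exact htt)))
      exact ⟨k, hk⟩
    haveI := Fact.mk Nat.prime_two
    obtain ⟨k, hk⟩ := IsPGroup.iff_card.1 hP
    rw [hk]
    refine (Nat.pow_dvd_pow 2 (show k ≤ 2 by
      by_contra hk3
      have h8 : 8 ≤ Nat.card W := hk ▸ le_trans (by norm_num) (Nat.pow_le_pow_right two_pos (show 3 ≤ k by omega))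
      haveI := Fintype.ofFinite W
      obtain ⟨w, hw⟩ : ∃ w : W, (w : G) * w ≠ 1 := by
        by_contra hall
        push Not at hall
        have : Nat.card W ≤ 2 := by
          have hs : (Finset.univ : Finset W).image (fun u : W => (u : G)) ⊆ ({1, t} : Finset G) := by
            intro u hu
            obtain ⟨u, -, rfl⟩ := Finset.mem_image.1 hu
            rcases hW1 u u.2 (hall u) with h | h <;> simp [h]
          have h4 := (Finset.card_le_card hs).trans Finset.card_le_two
          rwa [Finset.card_image_of_injective _ Subtype.val_injective, Finset.card_univ,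
            ← Nat.card_eq_fintype_card] at h4
        omega
      have hsub : (Finset.univ : Finset W).image (fun u : W => (u : G)) ⊆ ({1, t, (w : G), (w : G) * t} : Finset G) := by
        intro u hu
        obtain ⟨u, -, rfl⟩ := Finset.mem_image.1 hu
        simp only [Finset.mem_insert, Finset.mem_singleton]
        rcases hW2 u u.2 with h | h
        · rcases hW1 u u.2 h with h | h <;> simp [h]
        · have hwt : (w : G) * w = t := (hW2 w w.2).resolve_left hw
          have hK := K.sq_inj hH2 _ (hWH u u.2) _ (hWH w w.2) (by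
            rw [show g * (u : G) * g⁻¹ * (g * u * g⁻¹) = g * ((u : G) * u) * g⁻¹ by group,
              show g * (w : G) * g⁻¹ * (g * w * g⁻¹) = g * ((w : G) * w) * g⁻¹ by group, h, hwt])
          rw [show (g * (w : G) * g⁻¹)⁻¹ * (g * u * g⁻¹) * ((g * (w : G) * g⁻¹)⁻¹ * (g * u * g⁻¹)) =
            g * (((w : G)⁻¹ * u) * ((w : G)⁻¹ * u)) * g⁻¹ by group, conj_eq_one_iff] at hK
          rcases hW1 _ (mul_mem (inv_mem w.2) u.2) hK with h' | h'
          · exact Or.inr (Or.inr (Or.inl (inv_mul_eq_one.1 h').symm))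
          · exact Or.inr (Or.inr (Or.inr (inv_mul_eq_iff_eq_mul.1 h')))
      have h4 := (Finset.card_le_card hsub).trans Finset.card_le_four
      rw [Finset.card_image_of_injective _ Subtype.val_injective, Finset.card_univ,
        ← Nat.card_eq_fintype_card] at h4
      omega)).trans (by norm_num)
  -- `N = A W`
  have hdisj : A ⊓ W = ⊥ := by
    rw [Subgroup.eq_bot_iff_forall]
    rintro y ⟨hyA, hyW⟩
    by_contra hy1
    refine (K.torus_elt hT hyA hy1).1.1 c (hcu _ ?_)
    rw [← mul_smul, ← Subgroup.mem_centralizer_singleton_iff.1 hyW.2, mul_smul, hc]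
  have hAN : A ≤ N := Subgroup.le_normalizer
  have hsup : A ⊔ W = N := by
    refine le_antisymm (sup_le hAN inf_le_left) fun h hh => ?_
    have hh' : ∀ y ∈ A, h⁻¹ * y * h ∈ A := fun y hy => by
      have := (Subgroup.mem_set_normalizer_iff.1 (inv_mem hh) y).1 hy
      rwa [inv_inv] at this
    -- the conjugate of `t` inverts `x`
    have hxA : x ∈ A := Subgroup.mem_centralizer_singleton_iff.2 rfl
    have hinv' : h * t * h⁻¹ * x * (h * t * h⁻¹) = x⁻¹ := by
      calc h * t * h⁻¹ * x * (h * t * h⁻¹) = h * (t * (h⁻¹ * x * h) * t) * h⁻¹ := by group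
        _ = h * (h⁻¹ * x * h)⁻¹ * h⁻¹ := by rw [htinv _ (hh' x hxA)]
        _ = x⁻¹ := by group
    set z := t * (h * t * h⁻¹) with hz
    have hzA : z ∈ A := by
      refine Subgroup.mem_centralizer_singleton_iff.2 ?_
      have hht : h * t * h⁻¹ * (h * t * h⁻¹) = 1 := by
        rw [show h * t * h⁻¹ * (h * t * h⁻¹) = h * (t * t) * h⁻¹ by group, htt]; group
      have h2 : t * x⁻¹ = x * t := by
        calc t * x⁻¹ = t * (t * x * t) := by rw [hinv]
          _ = (t * t) * x * t := by group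
          _ = x * t := by rw [htt, one_mul]
      have h3 : h * t * h⁻¹ * x = x⁻¹ * (h * t * h⁻¹) := by
        calc h * t * h⁻¹ * x = h * t * h⁻¹ * x * ((h * t * h⁻¹) * (h * t * h⁻¹)) := by rw [hht, mul_one]
          _ = h * t * h⁻¹ * x * (h * t * h⁻¹) * (h * t * h⁻¹) := by group
          _ = x⁻¹ * (h * t * h⁻¹) := by rw [hinv']
      calc z * x = t * (h * t * h⁻¹ * x) := by rw [hz]; group
        _ = t * x⁻¹ * (h * t * h⁻¹) := by rw [h3]; group
        _ = x * z := by rw [h2, hz]; group
    obtain ⟨u, hu, hu2⟩ : ∃ u ∈ A, u * u = z⁻¹ := by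
      have hodd : Odd (Nat.card A) := by
        have h1 := K.torus_dvd hT
        have h2 := K.odd_degree
        exact (Nat.odd_iff.2 h2).of_dvd_nat h1
      obtain ⟨j, hj⟩ := hodd.of_dvd_nat (Subgroup.orderOf_dvd_natCard A (inv_mem hzA))
      refine ⟨z⁻¹ ^ (j + 1), pow_mem (inv_mem hzA) _, ?_⟩
      rw [← pow_add, show j + 1 + (j + 1) = orderOf z⁻¹ + 1 by omega, pow_succ, pow_orderOf_eq_one, one_mul]
    have hw : u⁻¹ * h ∈ W := by
      refine Subgroup.mem_inf.2 ⟨N.mul_mem (N.inv_mem (hAN hu)) hh, Subgroup.mem_centralizer_singleton_iff.2 ?_⟩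
      have h1 : t * u⁻¹ = u * t := by
        calc t * u⁻¹ = t * (t * u * t) := by rw [htinv u hu]
          _ = (t * t) * u * t := by group
          _ = u * t := by rw [htt, one_mul]
      have h2 : h * t * h⁻¹ = t * z := by rw [hz, ← mul_assoc, htt, one_mul]
      calc u⁻¹ * h * t = u⁻¹ * (h * t * h⁻¹) * h := by group
        _ = u⁻¹ * (t * z) * h := by rw [h2]
        _ = u⁻¹ * (t * z) * u * u⁻¹ * h := by group
        _ = t * (u⁻¹ * h) := by
          rw [show u⁻¹ * (t * z) * u = t by
            calc u⁻¹ * (t * z) * u = u⁻¹ * t * (u * u)⁻¹ * u := by rw [hu2]; group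
              _ = u⁻¹ * (t * u⁻¹) := by group
              _ = t := by rw [h1]; group]
          group
    rw [show h = u * (u⁻¹ * h) by group]
    exact Subgroup.mul_mem_sup hu hw
  have hcard : Nat.card N = Nat.card W * Nat.card A := by
    rw [← hsup, sup_comm]
    exact CfsgLib.Core.card_sup_of_disjoint W A inf_le_left (by rw [inf_comm]; exact hdisj)
  refine ⟨Nat.card W, ?_, hcard, ?_⟩
  · obtain ⟨h1, h2⟩ := hWcard
    have := Nat.le_of_dvd (by norm_num) h1
    interval_cases (Nat.card W) <;> omega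
  · refine CfsgLib.Core.FPF.card_dvd_pred inf_le_left fun w hw hw1 => ?_
    rw [Subgroup.eq_bot_iff_forall]
    rintro y ⟨hyA, hyw⟩
    by_contra hy1
    have hy := K.torus_elt hT hyA hy1
    have hwA : w ∈ A := hy.2 ▸ Subgroup.mem_centralizer_singleton_iff.2
      (Subgroup.mem_centralizer_singleton_iff.1 hyw).symm
    exact hw1 (Subgroup.mem_bot.1 (hdisj.le ⟨hwA, hw⟩))

end CfsgLib.PGroups.SuzukiZass
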