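import Mathlib
import Cfsg.Agent.Lib.PGroups.SuzukiZass.Tori

/-! Counting the strongly real fixed-point-free elements forces `log q` to be odd. -/

set_option autoImplicit false
set_option linter.all false

open Cfsg
open CfsgLib.Char.Exceptional
open scoped Pointwise

namespace CfsgLib.PGroups.SuzukiZass

variable {G Ω : Type*} [Group G] [Finite G] [MulAction G Ω] [Fintype Ω] [IsSimpleGroup G]
variable {H : Subgroup G} {a b : Ω} {m : ℕ}

attribute [local instance] Classical.propDecidable

/-- For an involution `s`, the number of involutions `t` with `s t` fixed-point-free. -/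
theorem Kern.good_count [Fintype G] (K : Kern H a b m) {s : G} (hs : orderOf s = 2) :
    2 * (Finset.univ.filter fun t : G => orderOf t = 2 ∧ ∀ c : Ω, t • c ≠ s • c).card =
      Nat.card H * 2 ^ m := by
  have hodd := K.odd
  set d := Nat.card ↥(MulAction.stabilizer G a ⊓ MulAction.stabilizer G b : Subgroup G) with hd
  set n := Fintype.card Ω with hn
  have hss := mul_self_of_order_two hs
  have h3 := zass_three_le K.zass
  set I := Finset.univ.filter fun t : G => orderOf t = 2 with hI
  have hIcard : I.card = n * d := by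
    have h := zass_involution_count K.zass K.ne hodd
    rw [← hI, K.odd_degree, ← hd] at h
    refine Nat.eq_of_mul_eq_mul_right (show 0 < n - 1 by omega) (h.trans ?_)
    ring
  -- each point is fixed by `d` involutions
  have hfixc : ∀ c : Ω, (I.filter fun t => t • c = c).card = d := by
    intro c
    have hmove : (I.filter fun t => ¬ t • c = c).card = (n - 1) * d := by
      rw [Finset.card_eq_sum_card_fiberwise (f := fun t : G => t • c) (t := Finset.univ.erase c)
        (fun t ht => Finset.mem_coe.2 (Finset.mem_erase.2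
          ⟨(Finset.mem_filter.1 (Finset.mem_coe.1 ht)).2, Finset.mem_univ _⟩))]
      rw [Finset.sum_congr rfl (g := fun _ => d) fun q hq => ?_, Finset.sum_const,
        Finset.card_erase_of_mem (Finset.mem_univ c), Finset.card_univ, smul_eq_mul, ← hn]
      rw [hd, ← zass_swap_count K.zass K.ne hodd (Finset.mem_erase.1 hq).1.symm]
      congr 1
      ext t
      simp only [hI, Finset.mem_filter, Finset.mem_univ, true_and]
      exact ⟨fun h => ⟨h.1.1, h.2⟩, fun h => ⟨⟨h.1, h.2 ▸ (Finset.mem_erase.1 hq).1⟩, h.2⟩⟩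
    have h := Finset.card_filter_add_card_filter_not (s := I) (fun t => t • c = c)
    rw [hmove, hIcard] at h
    have h' : n * d = d + (n - 1) * d := by
      rw [← one_add_mul, show 1 + (n - 1) = n by omega]
    omega
  -- double count
  have hper : ∀ c : Ω, (I.filter fun t => t • c = s • c).card = d := by
    intro c
    by_cases hc : s • c = c
    · simp only [hc]; exact hfixc c
    · rw [hd, ← zass_swap_count K.zass K.ne hodd (Ne.symm hc : c ≠ s • c)]
      congr 1
      ext t
      simp [hI]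
  let f : G → ℕ := fun t => (Finset.univ.filter fun c : Ω => t • c = s • c).card
  have htot : ∑ t ∈ I, f t = n * d := by
    simp only [f, Finset.card_filter]
    rw [Finset.sum_comm]
    simp only [← Finset.card_filter, hper, Finset.sum_const, Finset.card_univ, smul_eq_mul]
    rw [← hn]
  obtain ⟨c₀, hc₀, hc₀u⟩ := K.exists_fixed hs
  set B₁ := I.filter fun t => t ≠ s ∧ t • c₀ = c₀ with hB₁
  set B₂ := I.filter fun t => t • c₀ ≠ c₀ ∧ ∃ c : Ω, t • c = s • c with hB₂
  set Gd := I.filter fun t => ∀ c : Ω, t • c ≠ s • c with hGd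
  have hsI : s ∈ I := by simp [hI, hs]
  have hpart : I = insert s (B₁ ∪ (B₂ ∪ Gd)) := by
    ext t
    simp only [hB₁, hB₂, hGd, Finset.mem_insert, Finset.mem_union, Finset.mem_filter]
    constructor
    · intro ht
      by_cases h1 : t = s
      · exact Or.inl h1
      by_cases h2 : t • c₀ = c₀
      · exact Or.inr (Or.inl ⟨ht, h1, h2⟩)
      by_cases h3 : ∃ c : Ω, t • c = s • c
      · exact Or.inr (Or.inr (Or.inl ⟨ht, h2, h3⟩))
      · exact Or.inr (Or.inr (Or.inr ⟨ht, fun c hc => h3 ⟨c, hc⟩⟩))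
    · rintro (rfl | h | h | h)
      exacts [hsI, h.1, h.1, h.1]
  have hns : s ∉ B₁ ∪ (B₂ ∪ Gd) := by
    simp only [hB₁, hB₂, hGd, Finset.mem_union, Finset.mem_filter, not_or]
    exact ⟨fun h => h.2.1 rfl, fun h => h.2.1 hc₀, fun h => h.2 c₀ rfl⟩
  have hd12 : Disjoint B₁ (B₂ ∪ Gd) := by
    rw [Finset.disjoint_left]
    intro t h1 h2
    simp only [hB₁, hB₂, hGd, Finset.mem_union, Finset.mem_filter] at h1 h2
    rcases h2 with h2 | h2
    · exact h2.2.1 h1.2.2
    · exact h2.2 c₀ (h1.2.2.trans hc₀.symm)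
  have hd2 : Disjoint B₂ Gd := by
    rw [Finset.disjoint_left]
    intro t h1 h2
    simp only [hB₂, hGd, Finset.mem_filter] at h1 h2
    obtain ⟨c, hc⟩ := h1.2.2
    exact h2.2 c hc
  have hfix3 : ∀ t ∈ I, t ≠ s → ∀ c₁ c₂ c₃ : Ω, c₁ ≠ c₂ → t • c₁ = s • c₁ → t • c₂ = s • c₂ →
      t • c₃ = s • c₃ → c₃ = c₁ ∨ c₃ = c₂ := by
    intro t ht hts c₁ c₂ c₃ hne h1 h2 h3
    have hne1 : s * t ≠ 1 := fun e => hts (by
      rw [eq_inv_of_mul_eq_one_right e, inv_eq_of_mul_eq_one_right hss])
    have key : ∀ c : Ω, t • c = s • c → (s * t) • c = c := fun c hc => by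
      rw [mul_smul, hc, ← mul_smul, hss, one_smul]
    exact zass_fix_two K.zass hne1 hne (key _ h1) (key _ h2) (key _ h3)
  have hswap : ∀ t ∈ I, ∀ c : Ω, t • c = s • c → t • (s • c) = s • (s • c) := by
    intro t ht c hc
    rw [← mul_smul s s, hss, one_smul, ← hc, ← mul_smul, mul_self_of_order_two (Finset.mem_filter.1 ht).2,
      one_smul]
  have hfs : f s = n := by simp [f, hn]
  have hf1 : ∀ t ∈ B₁, f t = 1 := by
    intro t ht
    obtain ⟨htI, hts, htc⟩ := Finset.mem_filter.1 ht
    show (Finset.univ.filter fun c : Ω => t • c = s • c).card = 1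
    rw [Finset.card_eq_one]
    refine ⟨c₀, Finset.ext fun c => ?_⟩
    simp only [Finset.mem_filter, Finset.mem_univ, true_and, Finset.mem_singleton]
    refine ⟨fun hc => ?_, fun h => by rw [h, htc, hc₀]⟩
    by_contra hne
    have hsc : s • c ≠ c := fun h => hne (hc₀u c h)
    rcases hfix3 t htI hts c₀ c (s • c) (Ne.symm hne) (htc.trans hc₀.symm) hc (hswap t htI c hc) with h | h
    · exact hne (MulAction.injective s (h.trans hc₀.symm))
    · exact hsc h
  have hf2 : ∀ t ∈ B₂, f t = 2 := by
    intro t ht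
    obtain ⟨htI, htc, c, hc⟩ := Finset.mem_filter.1 ht
    have hts : t ≠ s := fun h => htc (by rw [h]; exact hc₀)
    have hsc : s • c ≠ c := fun h => htc (by rw [← hc₀u c h, hc, h])
    show (Finset.univ.filter fun c : Ω => t • c = s • c).card = 2
    rw [Finset.card_eq_two]
    refine ⟨c, s • c, Ne.symm hsc, Finset.ext fun p => ?_⟩
    simp only [Finset.mem_filter, Finset.mem_univ, true_and, Finset.mem_insert, Finset.mem_singleton]
    refine ⟨fun hp => hfix3 t htI hts c (s • c) p (Ne.symm hsc) hc (hswap t htI c hc) hp, ?_⟩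
    rintro (rfl | rfl)
    exacts [hc, hswap t htI c hc]
  have hfG : ∀ t ∈ Gd, f t = 0 := by
    intro t ht
    have h := (Finset.mem_filter.1 ht).2
    simp [f, Finset.filter_eq_empty_iff, h]
  have hB₁card : B₁.card + 1 = d := by
    rw [← hfixc c₀, show B₁ = (I.filter fun t => t • c₀ = c₀).erase s by
      ext t; simp [hB₁]; tauto, Finset.card_erase_add_one (Finset.mem_filter.2 ⟨hsI, hc₀⟩)]
  have hsumI : I.card = 1 + (B₁.card + (B₂.card + Gd.card)) := by
    rw [hpart, Finset.card_insert_of_notMem hns, Finset.card_union_of_disjoint hd12,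
      Finset.card_union_of_disjoint hd2]
    ring
  have hsumf : n * d = n + (B₁.card + (2 * B₂.card + 0)) := by
    rw [← htot, hpart, Finset.sum_insert hns, Finset.sum_union hd12, Finset.sum_union hd2, hfs,
      Finset.sum_congr rfl hf1, Finset.sum_congr rfl hf2, Finset.sum_congr rfl hfG]
    simp [Finset.sum_const, mul_comm]
  have hgoal : (Finset.univ.filter fun t : G => orderOf t = 2 ∧ ∀ c : Ω, t • c ≠ s • c) = Gd := by
    ext t; simp [hGd, hI]
  rw [hgoal]
  have hnh : n = Nat.card H + 1 := K.card.symm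
  have hdq : d + 1 = 2 ^ m := K.card_two_stab
  rw [← hdq, mul_add, mul_one]
  have hnd : n * d = Nat.card H * d + d := by rw [hnh, Nat.succ_mul]
  omega

/-- The main count: `2 Σ |A| (|A| - 1) = q |G|` over the tori `A`. -/
theorem Kern.pair_count [Fintype G] (K : Kern H a b m) (hH2 : Nat.card H = (2 ^ m) ^ 2) :
    2 * ∑ A ∈ Finset.univ.filter (fun A : Subgroup G => IsTorus Ω A),
      Nat.card A * (Nat.card A - 1) = Nat.card G * 2 ^ m ∧
    2 * (∑ A ∈ Finset.univ.filter (fun A : Subgroup G => IsTorus Ω A), (Nat.card A - 1)) +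
      Fintype.card Ω * (Fintype.card Ω - 1) ≤ Nat.card G + 2 * (Fintype.card Ω - 1) := by
  set R := Finset.univ.filter fun x : G => Strong Ω x with hR
  set T := Finset.univ.filter fun A : Subgroup G => IsTorus Ω A with hT
  set n := Fintype.card Ω with hn
  have hmaps : ∀ x ∈ R, Subgroup.centralizer ({x} : Set G) ∈ T := fun x hx =>
    Finset.mem_filter.2 ⟨Finset.mem_univ _, x, (Finset.mem_filter.1 hx).2, rfl⟩
  have hfib : ∀ A ∈ T, (R.filter fun x => Subgroup.centralizer ({x} : Set G) = A).card = Nat.card A - 1 := by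
    intro A hA
    have hA' := (Finset.mem_filter.1 hA).2
    rw [show (R.filter fun x => Subgroup.centralizer ({x} : Set G) = A) =
      (Finset.univ.filter (· ∈ A)).erase 1 by
        ext x
        simp only [hR, Finset.mem_filter, Finset.mem_univ, true_and, Finset.mem_erase, and_true]
        refine ⟨fun h => ⟨K.strong_ne_one h.1.1, h.2 ▸ Subgroup.mem_centralizer_singleton_iff.2 rfl⟩,
          fun h => ⟨(K.torus_elt hA' h.2 h.1).1, (K.torus_elt hA' h.2 h.1).2⟩⟩,
      Finset.card_erase_of_mem (by simp), ← Fintype.card_subtype, ← Nat.card_eq_fintype_card]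
  have hinvc : ∀ x ∈ R, (Finset.univ.filter fun s : G => orderOf s = 2 ∧ s * x * s = x⁻¹).card =
      Nat.card (Subgroup.centralizer ({x} : Set G)) := by
    intro x hx
    obtain ⟨hxf, t, ht, hinv⟩ := (Finset.mem_filter.1 hx).2
    have htt := mul_self_of_order_two ht
    rw [Nat.card_eq_fintype_card, ← Finset.card_univ]
    have h1 : ∀ s : G, orderOf s = 2 → s * x * s = x⁻¹ → t * s ∈ Subgroup.centralizer ({x} : Set G) := by
      intro s hs hsinv
      refine Subgroup.mem_centralizer_singleton_iff.2 ?_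
      have hss := mul_self_of_order_two hs
      have h2 : s * x = x⁻¹ * s := by
        calc s * x = s * x * (s * s) := by rw [hss, mul_one]
          _ = s * x * s * s := by group
          _ = x⁻¹ * s := by rw [hsinv]
      have h3 : t * x⁻¹ = x * t := by
        calc t * x⁻¹ = t * (t * x * t) := by rw [hinv]
          _ = t * t * x * t := by group
          _ = x * t := by rw [htt, one_mul]
      calc t * s * x = t * (s * x) := by group
        _ = t * x⁻¹ * s := by rw [h2]; group
        _ = x * (t * s) := by rw [h3]; group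
    refine Finset.card_bij' (fun s hs => (⟨t * s, h1 s (Finset.mem_filter.1 hs).2.1 (Finset.mem_filter.1 hs).2.2⟩ :
      Subgroup.centralizer ({x} : Set G))) (fun u _ => t * (u : G)) ?_ ?_ ?_ ?_
    · intro s _; exact Finset.mem_univ _
    · intro u _
      have hu := K.inv_of_strong hxf ht hinv u.2
      refine Finset.mem_filter.2 ⟨Finset.mem_univ _, orderOf_eq_prime ?_ ?_, ?_⟩
      · rw [pow_two, show t * (u : G) * (t * u) = t * u * t * u by group, hu, inv_mul_cancel]
      · intro e
        have hut : (u : G) = t := by rw [eq_inv_of_mul_eq_one_right e, inv_eq_of_mul_eq_one_right htt]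
        obtain ⟨c, hc, -⟩ := K.exists_fixed ht
        exact (K.torus_elt (A := Subgroup.centralizer ({x} : Set G)) ⟨x, ⟨hxf, t, ht, hinv⟩, rfl⟩ u.2
          (by rw [hut]; intro e'; rw [e', orderOf_one] at ht; omega)).1.1 c (by rw [hut, hc])
      · have hux : (u : G) * x = x * u := Subgroup.mem_centralizer_singleton_iff.1 u.2
        calc t * u * x * (t * u) = t * (u * x) * t * u := by group
          _ = t * x * (u * t * u) := by rw [hux]; group
          _ = t * x * t := by
            rw [show (u : G) * t * u = t by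
              calc (u : G) * t * u = t * (t * u * t) * u := by
                    rw [show t * (t * u * t) * u = t * t * u * t * u by group, htt, one_mul]
                _ = t := by rw [hu]; group]
          _ = x⁻¹ := hinv
    · intro s _; show t * (t * s) = s; rw [← mul_assoc, htt, one_mul]
    · intro u _; refine Subtype.ext ?_; show t * (t * (u : G)) = u; rw [← mul_assoc, htt, one_mul]
  have hper : ∀ s : G, orderOf s = 2 →
      2 * (R.filter fun x => s * x * s = x⁻¹).card = Nat.card H * 2 ^ m := by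
    intro s hs
    have hss := mul_self_of_order_two hs
    rw [← K.good_count hs]
    congr 1
    refine Finset.card_bij' (fun x _ => s * x) (fun t _ => s * t) ?_ ?_ ?_ ?_
    · intro x hx
      obtain ⟨hxR, hxs⟩ := Finset.mem_filter.1 hx
      have hxf := (Finset.mem_filter.1 hxR).2.1
      refine Finset.mem_filter.2 ⟨Finset.mem_univ _, orderOf_eq_prime ?_ ?_, ?_⟩
      · rw [pow_two, show s * x * (s * x) = s * x * s * x by group, hxs, inv_mul_cancel]
      · intro e
        obtain ⟨c, hc, -⟩ := K.exists_fixed hs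
        refine hxf c ?_
        rw [eq_inv_of_mul_eq_one_right e, inv_eq_of_mul_eq_one_right hss, hc]
      · intro c h
        rw [mul_smul] at h
        exact hxf c (MulAction.injective s h)
    · intro t ht
      obtain ⟨-, ht2, htc⟩ := Finset.mem_filter.1 ht
      have htt := mul_self_of_order_two ht2
      have hinv : s * (s * t) * s = (s * t)⁻¹ := by
        rw [mul_inv_rev, inv_eq_of_mul_eq_one_right htt, inv_eq_of_mul_eq_one_right hss, ← mul_assoc, hss,
          one_mul]
      refine Finset.mem_filter.2 ⟨Finset.mem_filter.2 ⟨Finset.mem_univ _, fun c h => htc c ?_, s, hs, hinv⟩, hinv⟩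
      rw [mul_smul] at h
      calc t • c = (s * s) • (t • c) := by rw [hss, one_smul]
        _ = s • c := by rw [mul_smul, h]
    · intro x _; show s * (s * x) = x; rw [← mul_assoc, hss, one_mul]
    · intro x _; show s * (s * x) = x; rw [← mul_assoc, hss, one_mul]
  refine ⟨?_, ?_⟩
  · have hL : ∑ A ∈ T, Nat.card A * (Nat.card A - 1) =
        ∑ x ∈ R, Nat.card (Subgroup.centralizer ({x} : Set G)) := by
      rw [← Finset.sum_fiberwise_of_maps_to hmaps]
      refine Finset.sum_congr rfl fun A hA => ?_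
      rw [Finset.sum_congr rfl (g := fun _ => Nat.card A) fun x hx => by rw [(Finset.mem_filter.1 hx).2],
        Finset.sum_const, hfib A hA, smul_eq_mul, mul_comm]
    have hdc : ∑ x ∈ R, (Finset.univ.filter fun s : G => orderOf s = 2 ∧ s * x * s = x⁻¹).card =
        ∑ s ∈ Finset.univ.filter (fun s : G => orderOf s = 2), (R.filter fun x => s * x * s = x⁻¹).card := by
      simp only [Finset.card_filter]
      rw [Finset.sum_comm, Finset.sum_filter]
      refine Finset.sum_congr rfl fun s _ => ?_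
      split_ifs with h <;> simp [h]
    rw [hL, ← Finset.sum_congr rfl hinvc, hdc, Finset.mul_sum,
      Finset.sum_congr rfl fun s hs => hper s (Finset.mem_filter.1 hs).2, Finset.sum_const, smul_eq_mul]
    have h := zass_involution_count K.zass K.ne K.odd
    rw [K.odd_degree] at h
    rw [zass_card K.zass K.ne, ← hn, show Nat.card H = n - 1 by have := K.card; omega, ← mul_assoc, h]
    ring
  · have hsum : ∑ A ∈ T, (Nat.card A - 1) = R.card := by
      rw [Finset.card_eq_sum_card_fiberwise (f := fun x => Subgroup.centralizer ({x} : Set G)) (t := T)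
        (fun x hx => Finset.mem_coe.2 (hmaps x (Finset.mem_coe.1 hx)))]
      exact Finset.sum_congr rfl fun A hA => (hfib A hA).symm
    have hle : R.card ≤ (Finset.univ.filter fun g : G => ∀ c : Ω, g • c ≠ c).card :=
      Finset.card_le_card fun x hx => Finset.mem_filter.2 ⟨Finset.mem_univ _, (Finset.mem_filter.1 hx).2.1⟩
    have hF := zass_two_mul_fpf K.zass K.ne
    have h3 := zass_three_le K.zass
    rw [hsum]
    have h2 : (2 * R.card + n * (n - 1) : ℕ) ≤ Nat.card G + 2 * (n - 1) := by
      zify [show 1 ≤ n by omega]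
      have hle' : ((R.card : ℕ) : ℤ) ≤ (Finset.univ.filter fun g : G => ∀ c : Ω, g • c ≠ c).card := by
        exact_mod_cast hle
      rw [← hn] at hF
      linarith
    exact h2

/-- Two tori of orders `a₁ + a₂ = 2 q + 2` with `a₁ a₂` dividing `q² + 1`. -/
theorem Kern.exists_torus_pair (K : Kern H a b m) (hH2 : Nat.card H = (2 ^ m) ^ 2) :
    ∃ A₁ A₂ : Subgroup G, IsTorus Ω A₁ ∧ IsTorus Ω A₂ ∧ 1 ≤ Nat.card A₁ ∧ 1 ≤ Nat.card A₂ ∧
      Nat.card A₁ + Nat.card A₂ = 2 * 2 ^ m + 2 ∧ ∃ k, Nat.card A₁ * Nat.card A₂ * k = (2 ^ m) ^ 2 + 1 := by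
  haveI := Fintype.ofFinite G
  obtain ⟨hP, hF⟩ := K.pair_count hH2
  set T := Finset.univ.filter fun A : Subgroup G => IsTorus Ω A with hT
  set n := Fintype.card Ω with hn
  let orb : Subgroup G → Finset (Subgroup G) := fun A => Finset.univ.image fun g : G => MulAut.conj g • A
  have horb : ∀ (A : Subgroup G) (g : G), orb (MulAut.conj g • A) = orb A := by
    intro A g
    ext B
    simp only [orb, Finset.mem_image, Finset.mem_univ, true_and]
    constructor
    · rintro ⟨k, rfl⟩; exact ⟨k * g, (CfsgLib.Core.conj_smul_conj_smul k g A).symm⟩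
    · rintro ⟨k, rfl⟩; exact ⟨k * g⁻¹, by rw [CfsgLib.Core.conj_smul_conj_smul, inv_mul_cancel_right]⟩
  have hselfmem : ∀ A : Subgroup G, A ∈ orb A := fun A =>
    Finset.mem_image.2 ⟨1, Finset.mem_univ _, CfsgLib.Core.conj_one_smul A⟩
  have horbcard : ∀ A : Subgroup G,
      (orb A).card * Nat.card (Subgroup.normalizer (A : Set G)) = Nat.card G := by
    intro A
    have h := Finset.card_eq_sum_card_fiberwise (f := fun g : G => MulAut.conj g • A) (s := Finset.univ)
      (t := orb A) (fun g _ => Finset.mem_coe.2 (Finset.mem_image_of_mem _ (Finset.mem_univ _)))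
    rw [Finset.card_univ, ← Nat.card_eq_fintype_card] at h
    rw [h, Finset.sum_congr rfl (g := fun _ => Nat.card (Subgroup.normalizer (A : Set G))) fun B hB => ?_,
      Finset.sum_const, smul_eq_mul]
    obtain ⟨k, -, rfl⟩ := Finset.mem_image.1 hB
    rw [Nat.card_eq_fintype_card, ← Finset.card_univ]
    refine Finset.card_bij' (fun g hg => (⟨k⁻¹ * g, ?_⟩ : Subgroup.normalizer (A : Set G)))
      (fun u _ => k * (u : G)) ?_ ?_ ?_ ?_
    · rw [CfsgLib.Core.mem_normalizer_iff_conj_smul_eq, ← CfsgLib.Core.conj_smul_conj_smul,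
        (Finset.mem_filter.1 hg).2, CfsgLib.Core.conj_smul_conj_smul, inv_mul_cancel,
        CfsgLib.Core.conj_one_smul]
    · intro g _; exact Finset.mem_univ _
    · intro u _
      refine Finset.mem_filter.2 ⟨Finset.mem_univ _, ?_⟩
      rw [← CfsgLib.Core.conj_smul_conj_smul, CfsgLib.Core.mem_normalizer_iff_conj_smul_eq.1 u.2]
    · intro g _; show k * (k⁻¹ * g) = g; group
    · intro u _; refine Subtype.ext ?_; show k⁻¹ * (k * (u : G)) = u; group
  set Q := T.image orb with hQ
  have hex : ∀ O ∈ Q, ∃ A, IsTorus Ω A ∧ orb A = O := by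
    intro O hO
    obtain ⟨A, hA, rfl⟩ := Finset.mem_image.1 hO
    exact ⟨A, (Finset.mem_filter.1 hA).2, rfl⟩
  choose! rep hrep hrepO using hex
  choose! l hl hlN hldvd using fun A (hA : IsTorus Ω A) => K.torus_normalizer hH2 hA
  let av : Finset (Subgroup G) → ℕ := fun O => Nat.card (rep O)
  let lv : Finset (Subgroup G) → ℕ := fun O => l (rep O)
  let xv : Finset (Subgroup G) → ℕ := fun O => (av O - 1) / lv O
  have hfacts : ∀ O ∈ Q, (lv O = 2 ∨ lv O = 4) ∧ av O = lv O * xv O + 1 ∧ 1 ≤ xv O ∧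
      av O ∣ n ∧ O.card * (lv O * av O) = Nat.card G ∧
      (∀ A ∈ T.filter (fun A => orb A = O), Nat.card A = av O) ∧ (T.filter fun A => orb A = O) = O := by
    intro O hO
    have hA := hrep O hO
    have hl' := hl _ hA
    have hdv := hldvd _ hA
    have hpos : 2 ≤ av O := by
      obtain ⟨y, hy, hy1⟩ := K.torus_ne_bot hA
      haveI : Nontrivial (rep O) := ⟨⟨⟨y, hy⟩, 1, fun h => hy1 (congrArg Subtype.val h)⟩⟩
      exact Finite.one_lt_card
    have hmul : lv O * xv O = av O - 1 := Nat.mul_div_cancel' hdv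
    refine ⟨hl', by omega, ?_, K.torus_dvd hA, ?_, ?_, ?_⟩
    · by_contra h
      rw [show xv O = 0 by omega, mul_zero] at hmul
      omega
    · have h := horbcard (rep O)
      rw [hrepO O hO, hlN _ hA] at h
      exact h
    · intro A hA'
      obtain ⟨-, hAO⟩ := Finset.mem_filter.1 hA'
      have hmem : A ∈ orb (rep O) := by rw [hrepO O hO, ← hAO]; exact hselfmem A
      obtain ⟨g, -, rfl⟩ := Finset.mem_image.1 hmem
      exact CfsgLib.Core.card_conj_smul g _
    · ext A
      constructor
      · intro h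
        rw [← (Finset.mem_filter.1 h).2]; exact hselfmem A
      · intro h
        rw [← hrepO O hO] at h
        obtain ⟨g, -, rfl⟩ := Finset.mem_image.1 h
        exact Finset.mem_filter.2 ⟨Finset.mem_filter.2 ⟨Finset.mem_univ _, hA.conj g⟩, by rw [horb, hrepO O hO]⟩
  have hmapsQ : ∀ A ∈ T, orb A ∈ Q := fun A hA => Finset.mem_image_of_mem orb hA
  -- the two identities
  have hX : 2 * ∑ O ∈ Q, xv O = 2 ^ m := by
    rw [← Finset.sum_fiberwise_of_maps_to hmapsQ,
      Finset.sum_congr rfl (g := fun O => Nat.card G * xv O) fun O hO => ?_, ← Finset.mul_sum] at hP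
    · have hG : 0 < Nat.card G := Nat.card_pos
      exact Nat.eq_of_mul_eq_mul_left hG (by rw [← mul_assoc, mul_comm (Nat.card G) 2, mul_assoc]; exact hP)
    · obtain ⟨-, h1, -, -, h2, h3, h4⟩ := hfacts O hO
      rw [Finset.sum_congr rfl (g := fun _ => av O * (av O - 1)) fun A hA => by rw [h3 A hA],
        Finset.sum_const, smul_eq_mul, h4, ← h2, show av O - 1 = lv O * xv O by omega]
      ring
  set h := Nat.card H with hh
  have hnh : n = h + 1 := K.card.symm
  set d := Nat.card ↥(MulAction.stabilizer G a ⊓ MulAction.stabilizer G b : Subgroup G) with hd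
  have hdq : d + 1 = 2 ^ m := K.card_two_stab
  have hG : (Nat.card G : ℚ) = (n : ℚ) * h * d := by
    rw [K.card_eq, ← hh, ← hd, ← hnh]; push_cast; ring
  have hsumQ : 2 * ∑ O ∈ Q, (xv O : ℚ) / (av O : ℚ) ≤ 1 - (2 ^ m + 1 : ℚ) / n := by
    have h1 : ∑ A ∈ T, ((Nat.card A - 1 : ℕ) : ℚ) = (Nat.card G : ℚ) * ∑ O ∈ Q, (xv O : ℚ) / (av O : ℚ) := by
      rw [← Finset.sum_fiberwise_of_maps_to hmapsQ, Finset.mul_sum]
      refine Finset.sum_congr rfl fun O hO => ?_
      obtain ⟨-, h1, -, -, h2, h3, h4⟩ := hfacts O hO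
      rw [Finset.sum_congr rfl (g := fun _ => ((lv O * xv O : ℕ) : ℚ)) fun A hA => by
        rw [h3 A hA, show av O - 1 = lv O * xv O by omega], Finset.sum_const, nsmul_eq_mul, h4, ← h2]
      have hav : (av O : ℚ) ≠ 0 := Nat.cast_ne_zero.2 (by omega)
      push_cast
      rw [← mul_div_assoc, eq_div_iff hav]
      ring
    have h2 : 2 * ∑ A ∈ T, ((Nat.card A - 1 : ℕ) : ℚ) + (n : ℚ) * h ≤ Nat.card G + 2 * h := by
      rw [show n - 1 = h by omega] at hF
      exact_mod_cast hF
    rw [h1, hG] at h2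
    have hnpos : (0 : ℚ) < n := by rw [hnh]; positivity
    have hhq : (h : ℚ) = ((2 : ℚ) ^ m) ^ 2 := by rw [hH2]; push_cast; ring
    have hdq' : (d : ℚ) = 2 ^ m - 1 := by
      have : ((d + 1 : ℕ) : ℚ) = ((2 ^ m : ℕ) : ℚ) := by rw [hdq]
      push_cast at this; linarith
    have hn' : (n : ℚ) = ((2 : ℚ) ^ m) ^ 2 + 1 := by rw [hnh, Nat.cast_add, hhq]; simp
    have hq4 : (4 : ℚ) ≤ 2 ^ m := by exact_mod_cast K.four_le
    set S := ∑ O ∈ Q, (xv O : ℚ) / (av O : ℚ)
    set q := (2 : ℚ) ^ m
    rw [le_sub_iff_add_le, ← le_sub_iff_add_le', div_le_iff₀ hnpos]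
    rw [hdq', hhq, hn'] at h2
    rw [hn']
    have hpos : 0 < q ^ 2 * (q - 1) := by nlinarith
    refine le_of_mul_le_mul_left ?_ hpos
    nlinarith [h2]
  have hn' : (n : ℚ) = ((2 : ℚ) ^ m) ^ 2 + 1 := by rw [hnh, hH2]; push_cast; ring
  have hq4 : (4 : ℚ) ≤ 2 ^ m := by exact_mod_cast K.four_le
  have hn0 : (0 : ℚ) < n := by rw [hnh]; positivity
  have hhalf : ∑ O ∈ Q, (xv O : ℚ) / (av O : ℚ) < 1 / 2 := by
    have : (0 : ℚ) < (2 ^ m + 1 : ℚ) / n := by positivity
    linarith
  have hterm : ∀ O ∈ Q, (1 : ℚ) / 5 ≤ (xv O : ℚ) / (av O : ℚ) ∧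
      (lv O = 2 → (1 : ℚ) / 3 ≤ (xv O : ℚ) / (av O : ℚ)) := by
    intro O hO
    obtain ⟨hl', h1, hx, -⟩ := hfacts O hO
    have hxq : (1 : ℚ) ≤ xv O := by exact_mod_cast hx
    have haq : (av O : ℚ) = lv O * xv O + 1 := by exact_mod_cast h1
    have hav : (0 : ℚ) < av O := by rw [haq]; positivity
    rw [le_div_iff₀ hav, le_div_iff₀ hav, haq]
    refine ⟨?_, fun h => by rw [h]; push_cast; linarith⟩
    rcases hl' with h | h <;> rw [h] <;> push_cast <;> linarith
  have hno2 : ∀ O ∈ Q, lv O ≠ 2 := by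
    intro O hO h2
    by_cases hone : Q = {O}
    · rw [hone, Finset.sum_singleton] at hX hsumQ
      obtain ⟨-, h1, -⟩ := hfacts O hO
      have hx : (xv O : ℚ) = 2 ^ m / 2 := by
        have : ((2 * xv O : ℕ) : ℚ) = ((2 ^ m : ℕ) : ℚ) := by rw [hX]
        push_cast at this; linarith
      have haq : (av O : ℚ) = 2 ^ m + 1 := by
        rw [h1, h2]; push_cast; rw [hx]; ring
      rw [hx, haq, hn', le_sub_iff_add_le] at hsumQ
      set q := (2 : ℚ) ^ m
      have hq1 : (0 : ℚ) < q + 1 := by linarith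
      rw [show 2 * (q / 2 / (q + 1)) = q / (q + 1) by ring, div_add_div _ _ hq1.ne' (by positivity),
        div_le_one (by positivity)] at hsumQ
      nlinarith
    · obtain ⟨O', hO', hne⟩ : ∃ O' ∈ Q, O' ≠ O := by
        by_contra hcon
        push Not at hcon
        exact hone (Finset.eq_singleton_iff_unique_mem.2 ⟨hO, hcon⟩)
      have := Finset.sum_le_sum_of_subset_of_nonneg (f := fun O => (xv O : ℚ) / (av O : ℚ))
        (s := {O, O'}) (t := Q) (Finset.insert_subset hO (Finset.singleton_subset_iff.2 hO'))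
        fun i _ _ => by positivity
      rw [Finset.sum_pair (Ne.symm hne)] at this
      have h5 := (hterm O' hO').1
      have h3 := (hterm O hO).2 h2
      linarith
  have hcard : Q.card ≤ 2 := by
    by_contra hcon
    push Not at hcon
    have h1 := Finset.card_nsmul_le_sum Q (fun O => (xv O : ℚ) / (av O : ℚ)) (1 / 5) fun O hO => (hterm O hO).1
    rw [nsmul_eq_mul] at h1
    have : (3 : ℚ) ≤ Q.card := by exact_mod_cast hcon
    linarith
  have hav4 : ∀ O ∈ Q, av O = 4 * xv O + 1 := fun O hO => by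
    obtain ⟨hl', h1, -⟩ := hfacts O hO
    rw [h1, (hl'.resolve_left (hno2 O hO))]
  rcases (show Q.card = 0 ∨ Q.card = 1 ∨ Q.card = 2 by omega) with hc | hc | hc
  · rw [Finset.card_eq_zero.1 hc, Finset.sum_empty] at hX
    have := K.four_le
    omega
  · obtain ⟨O, hO⟩ := Finset.card_eq_one.1 hc
    have hOQ : O ∈ Q := hO ▸ Finset.mem_singleton_self O
    rw [hO, Finset.sum_singleton] at hX
    have h1 : av O ∣ n := (hfacts O hOQ).2.2.2.1
    rw [hav4 O hOQ, hnh, hH2] at h1
    have h2 : 4 * xv O + 1 ∣ 5 := by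
      have hx1 := (hfacts O hOQ).2.2.1
      have h3 := Nat.dvd_sub (h1.mul_left 4) (dvd_mul_right (4 * xv O + 1) (4 * xv O - 1))
      rw [← hX] at h3
      convert h3 using 1
      obtain ⟨y, hy⟩ : ∃ y, xv O = y + 1 := ⟨xv O - 1, by omega⟩
      rw [hy, show 4 * (y + 1) - 1 = 4 * y + 3 by omega]
      symm
      apply Nat.sub_eq_of_eq_add
      ring
    have := Nat.le_of_dvd (by norm_num) h2
    have := K.four_le
    omega
  · obtain ⟨O₁, O₂, hne, hQ2⟩ := Finset.card_eq_two.1 hc
    have hO₁ : O₁ ∈ Q := hQ2 ▸ by simp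
    have hO₂ : O₂ ∈ Q := hQ2 ▸ by simp
    rw [hQ2, Finset.sum_pair hne] at hX
    have hcop : Nat.Coprime (av O₁) (av O₂) := by
      refine Nat.coprime_of_dvd fun p hp h1 h2 => hne ?_
      obtain ⟨g, hg⟩ := K.torus_conj (hrep _ hO₁) (hrep _ hO₂) hp h1 h2
      rw [← hrepO _ hO₁, ← hrepO _ hO₂, ← hg, horb]
    obtain ⟨k, hk⟩ := hcop.mul_dvd_of_dvd_of_dvd (hfacts O₁ hO₁).2.2.2.1 (hfacts O₂ hO₂).2.2.2.1
    exact ⟨rep O₁, rep O₂, hrep _ hO₁, hrep _ hO₂, Nat.card_pos, Nat.card_pos,
      show av O₁ + av O₂ = 2 * 2 ^ m + 2 by rw [hav4 O₁ hO₁, hav4 O₂ hO₂, ← hX]; ring,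
      k, by rw [← hk, hnh, hH2]⟩

/-- `log q` is odd. -/
theorem Kern.odd_log (K : Kern H a b m) (hH2 : Nat.card H = (2 ^ m) ^ 2) : Odd m := by
  obtain ⟨A₁, A₂, -, -, h1, h2, hs, k, hk⟩ := K.exists_torus_pair hH2
  exact odd_exponent h1 h2 hs hk

end CfsgLib.PGroups.SuzukiZass
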