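import Mathlib
import Cfsg.Agent.Lib.PGroups.SuzukiZass.Cube
import Cfsg.Agent.Lib.PGroups.SuzukiZass.ToriCount
import Cfsg.Agent.Lib.Perm.ZassenhausAbelianMain
import Cfsg.Agent.Lib.Perm.SharplyThreeOdd
import Cfsg.Agent.Lib.Recog.PrimeGraph
import Cfsg.Agent.S1139

/-! The classification of simple Zassenhaus groups. -/

set_option autoImplicit false
set_option linter.all false

open Cfsg
open CfsgLib.Char.Exceptional

namespace CfsgLib.PGroups.SuzukiZass

attribute [local instance] Classical.propDecidable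

universe u

variable {G : Type u} {Ω : Type*} [Group G] [Finite G] [MulAction G Ω] [Fintype Ω] [IsSimpleGroup G]

theorem Kern.card_sq {H : Subgroup G} {a b : Ω} {m : ℕ} (K : Kern H a b m) :
    Nat.card H = (2 ^ m) ^ 2 :=
  K.card_cases.resolve_right K.not_cube

/-- The Suzuki orders. -/
theorem Kern.isSuzuki {H : Subgroup G} {a b : Ω} {m : ℕ} (K : Kern H a b m) : Cfsg.IsSuzuki G := by
  have hH := K.card_sq
  obtain ⟨k, hk⟩ := K.odd_log hH
  have := K.two_le
  have hd := K.card_two_stab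
  refine ⟨inferInstance, k, by omega, ?_⟩
  subst hk
  rw [K.card_eq, hH]
  generalize Nat.card ↥(MulAction.stabilizer G a ⊓ MulAction.stabilizer G b : Subgroup G) = d at *
  rw [← hd, Nat.add_sub_cancel]
  ring

/-- A non-abelian two-group as point kernel leads to the standing hypotheses. -/
theorem exists_kern_of_two (hZ : IsZassenhausGroup G Ω) {a b : Ω} (hab : a ≠ b)
    {H : Subgroup G} (hHa : H ≤ MulAction.stabilizer G a) (hHcard : Nat.card H + 1 = Fintype.card Ω)
    (hHfix : ∀ u ∈ H, u ≠ 1 → ∀ c : Ω, u • c = c → c = a) (h2 : IsPGroup 2 H)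
    (hna : ∃ u v : H, u * v ≠ v * u) : ∃ m, Kern H a b m := by
  refine exists_kern hZ hab (Nat.not_even_iff_odd.1 fun heven => ?_) hHa hHcard hHfix h2 hna
  obtain ⟨p, f, F, _, _, hp, hp2, -, hn, -⟩ := CfsgLib.Perm.iso_psl_of_half hZ hab heven
    (CfsgLib.Perm.zass_simple_even_half hZ hab heven)
  haveI := Fact.mk Nat.prime_two
  obtain ⟨j, hj⟩ := IsPGroup.iff_card.1 h2
  have h3 := zass_three_le hZ
  have hpj : p ^ f = 2 ^ j := by omega
  rcases Nat.eq_zero_or_pos f with rfl | hf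
  · simp at hn; omega
  · exact hp2 ((Nat.prime_dvd_prime_iff_eq hp Nat.prime_two).1
      (hp.dvd_of_dvd_pow (hpj ▸ dvd_pow_self p hf.ne')))

omit [IsSimpleGroup G] in
/-- A regular normal subgroup of a point stabiliser. -/
theorem kernel_of_regular {a b : Ω} (hab : a ≠ b) {U : Subgroup G} (hUle : U ≤ MulAction.stabilizer G a)
    (hreg : ∀ y z : Ω, y ≠ a → z ≠ a → ∃! u : U, (u : G) • y = z) :
    Nat.card U + 1 = Fintype.card Ω ∧ ∀ u ∈ U, u ≠ 1 → ∀ c : Ω, u • c = c → c = a := by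
  refine ⟨?_, fun u hu hu1 c hc => ?_⟩
  · have hmem : ∀ u : U, (u : G) • b ≠ a := fun u e => hab.symm
      (MulAction.injective (u : G) (e.trans (hUle u.2 : (u : G) • a = a).symm))
    have hbij : Function.Bijective fun u : U => (⟨(u : G) • b, hmem u⟩ : {c : Ω // c ≠ a}) := by
      refine ⟨fun u v h => ?_, fun z => ?_⟩
      · obtain ⟨w, -, hw⟩ := hreg b ((v : G) • b) hab.symm (hmem v)
        exact (hw u (congrArg Subtype.val h)).trans (hw v rfl).symm
      · obtain ⟨u, hu, -⟩ := hreg b z hab.symm z.2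
        exact ⟨u, Subtype.ext hu⟩
    rw [Nat.card_eq_of_bijective _ hbij, Nat.card_eq_fintype_card, Fintype.card_subtype_compl,
      Fintype.card_subtype_eq]
    have : 0 < Fintype.card Ω := Fintype.card_pos_iff.2 ⟨a⟩
    omega
  · by_contra hca
    obtain ⟨w, -, hw⟩ := hreg c c hca hca
    exact hu1 (congrArg Subtype.val ((hw ⟨u, hu⟩ hc).trans (hw 1 (one_smul G c)).symm))

/-- The structure of a non-abelian two-group kernel. -/
theorem kernel_structure (hZ : IsZassenhausGroup G Ω) {a b : Ω} (hab : a ≠ b)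
    (U : Subgroup G) (hUle : U ≤ MulAction.stabilizer G a)
    (hreg : ∀ c d : Ω, c ≠ a → d ≠ a → ∃! u : U, (u : G) • c = d)
    (hU2 : IsPGroup 2 U) (hUna : ∃ u ∈ U, ∃ v ∈ U, u * v ≠ v * u) :
    ∃ n : ℕ, Odd n ∧ 1 < n ∧ Nat.card Ω = 2 ^ (2 * n) + 1 ∧
      IsCyclic ↥(MulAction.stabilizer G a ⊓ MulAction.stabilizer G b : Subgroup G) ∧
      Nat.card ↥(MulAction.stabilizer G a ⊓ MulAction.stabilizer G b : Subgroup G) = 2 ^ n - 1 ∧
      ∃ (F : Type) (_ : Field F) (_ : Fintype F) (φ : F ≃+* F), Fintype.card F = 2 ^ n ∧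
        Nonempty (U ≃* Cfsg.suzukiTypeA F (φ : F →+* F)) := by
  obtain ⟨hcard, hfix⟩ := kernel_of_regular hab hUle hreg
  obtain ⟨u, hu, v, hv, huv⟩ := hUna
  obtain ⟨m, K⟩ := exists_kern_of_two hZ hab hUle hcard hfix hU2
    ⟨⟨u, hu⟩, ⟨v, hv⟩, fun h => huv (congrArg Subtype.val h)⟩
  have hH := K.card_sq
  have hm := K.two_le
  obtain ⟨F, iF, iFt, φ, hF, -, -, hiso⟩ := Cfsg.Agent.S1139.result K.suzuki (by rw [hH, K.center_card])
  refine ⟨m, K.odd_log hH, by omega, ?_, (CfsgLib.Perm.zass_simple_torus hZ hab).1,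
    by have := K.card_two_stab; omega, F, iF, iFt, φ, hF.trans K.center_card, hiso⟩
  rw [Nat.card_eq_fintype_card, ← K.card, hH, ← pow_mul, mul_comm m 2]

/-- The full two-point stabiliser of odd order gives `PSL(2, 2ᵃ)`. -/
theorem iso_psl_of_full (hZ : IsZassenhausGroup G Ω) {a b : Ω} (hab : a ≠ b)
    (hd : Nat.card ↥(MulAction.stabilizer G a ⊓ MulAction.stabilizer G b : Subgroup G) =
      Fintype.card Ω - 2) (hn : Odd (Fintype.card Ω)) :
    ∃ (F : Type) (_ : Field F) (_ : Fintype F),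
      Nonempty (G ≃* Matrix.ProjectiveSpecialLinearGroup (Fin 2) F) := by
  obtain ⟨h3, -⟩ := CfsgLib.Perm.zass_sharply_three hZ hab hd
  haveI := hZ.1
  set P := (MulAction.toPermHom G Ω).range with hP
  have h3' : MulAction.IsMultiplyPretransitive P Ω 3 := ⟨fun s t => by
    obtain ⟨g, hg⟩ := h3.exists_smul_eq s t
    refine ⟨⟨MulAction.toPermHom G Ω g, g, rfl⟩, Function.Embedding.ext fun i => ?_⟩
    exact DFunLike.congr_fun hg i⟩
  have hfix : ∀ (g : P) (x y z : Ω), x ≠ y → x ≠ z → y ≠ z → g • x = x → g • y = y → g • z = z → g = 1 := by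
    rintro ⟨_, g, rfl⟩ x y z hxy hxz hyz hx hy hz
    have hg : g = 1 := hZ.2.2.1 g x y z hxy hyz hxz hx hy hz
    exact Subtype.ext (by subst hg; exact map_one _)
  obtain ⟨j, hj, -, F, iF, iFt, hF, ⟨e⟩⟩ :=
    CfsgLib.Perm.SharplyThreeOdd.exists_iso_sl (zass_three_le hZ) hn P h3' hfix
  haveI : Fact (Nat.Prime 2) := ⟨Nat.prime_two⟩
  haveI : CharP F 2 := charP_of_card_eq_prime_pow (f := j) hF
  obtain ⟨g⟩ := CfsgLib.Recog.AffineTwo.psl_equiv_sl F
  exact ⟨F, iF, iFt, ⟨((MonoidHom.ofInjective MulAction.toPerm_injective).trans e).trans g.symm⟩⟩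

/-- The classification of simple Zassenhaus groups, keeping the point kernel in the Suzuki case. -/
theorem classify_kern (hZ : IsZassenhausGroup G Ω) :
    (∃ (F : Type) (_ : Field F) (_ : Fintype F),
      Nonempty (G ≃* Matrix.ProjectiveSpecialLinearGroup (Fin 2) F)) ∨
    ∃ (H : Subgroup G) (a b : Ω) (m : ℕ), Kern H a b m := by
  haveI := Fintype.ofFinite G
  have h3 := zass_three_le hZ
  haveI : Nontrivial Ω := Fintype.one_lt_card_iff_nontrivial.1 (by omega)
  obtain ⟨a, b, hab⟩ := exists_pair_ne Ω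
  set E := (MulAction.stabilizer G a ⊓ MulAction.stabilizer G b : Subgroup G) with hE
  rcases Nat.even_or_odd (Nat.card E) with heven | hodd
  · obtain ⟨p, f, F, iF, iFt, -, -, -, -, he⟩ := CfsgLib.Perm.iso_psl_of_half hZ hab heven
      (CfsgLib.Perm.zass_simple_even_half hZ hab heven)
    exact Or.inl ⟨F, iF, iFt, he⟩
  obtain ⟨H, hHa, hHcard, hHfix, hnil⟩ := zass_exists_kernel hZ hab
  have hdvd := CfsgLib.Perm.zass_card_two_stab_dvd hZ hab
  rw [← hE] at hdvd
  have hle : Nat.card E ≤ Fintype.card Ω - 2 := Nat.le_of_dvd (by omega) hdvd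
  by_cases hfull : Nat.card E = Fintype.card Ω - 2
  · obtain ⟨j, hj⟩ := hodd
    exact Or.inl (iso_psl_of_full hZ hab hfull ⟨j + 1, by omega⟩)
  by_cases hcomm : ∀ x ∈ H, ∀ y ∈ H, x * y = y * x
  · obtain ⟨-, hge⟩ := CfsgLib.Perm.zass_abelian_kernel_simple (Nat.card E) G Ω hZ a b hab rfl hodd H hHa
      hHcard hHfix hcomm
    obtain ⟨k, hk⟩ := hdvd
    have hk2 : k = 2 := by
      rcases k with _ | _ | _ | k
      · omega
      · omega
      · rfl
      · exfalso
        have h' : Nat.card E * 3 ≤ Nat.card E * (k + 1 + 1 + 1) := Nat.mul_le_mul_left _ (by omega)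
        have := Nat.card_pos (α := E)
        rw [← hk] at h'
        omega
    subst hk2
    obtain ⟨p, f, F, iF, iFt, -, -, -, -, he⟩ := CfsgLib.Perm.iso_psl_of_half_odd hZ hab hodd
      (show 2 * Nat.card E + 2 = Fintype.card Ω by omega)
    exact Or.inl ⟨F, iF, iFt, he⟩
  push Not at hcomm
  obtain ⟨x, hx, y, hy, hxy⟩ := hcomm
  have hna : ∃ u v : H, u * v ≠ v * u := ⟨⟨x, hx⟩, ⟨y, hy⟩, fun h => hxy (congrArg Subtype.val h)⟩
  rcases CfsgLib.Perm.zass_kernel_bound hZ hab hodd hHa hHcard hHfix with hsmall | ⟨h2, -, -⟩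
  swap
  · obtain ⟨m, K⟩ := exists_kern_of_two hZ hab hHa hHcard hHfix h2 hna
    exact Or.inr ⟨H, a, b, m, K⟩
  -- the two-point stabiliser has two orbits on the kernel, one of them in the centre
  exfalso
  rw [← hE] at hsmall
  haveI := hnil
  have hnorm := zass_kernel_normalizer hZ hHa hHcard hHfix
  haveI : Nontrivial H := ⟨⟨⟨x, hx⟩, 1, fun h => hxy (by
    rw [show x = 1 from congrArg Subtype.val h, one_mul, mul_one])⟩⟩
  set Z := Subgroup.center H with hZdef
  have hZne : Z ≠ ⊥ := Group.IsNilpotent.center_ne_bot H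
  obtain ⟨z, hzZ, hz1⟩ := Z.bot_or_exists_ne_one.resolve_left hZne
  obtain ⟨w, hw⟩ : ∃ w : H, w ∉ Z := ⟨⟨x, hx⟩, fun h => hxy
    (congrArg Subtype.val (Subgroup.mem_center_iff.1 h ⟨y, hy⟩)).symm⟩
  have hw1 : w ≠ 1 := fun h => hw (h ▸ Z.one_mem)
  have hmem : ∀ (g : E) (u : H), (g : G) * u * (g : G)⁻¹ ∈ H := fun g u =>
    (Subgroup.mem_set_normalizer_iff.1 (hnorm.ge g.2.1) u).1 u.2
  let cj : E → H → H := fun g u => ⟨_, hmem g u⟩
  have hinj : ∀ u : H, u ≠ 1 → Function.Injective fun g => cj g u := by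
    intro u hu g g' h
    have h' : (g : G) * u * (g : G)⁻¹ = (g' : G) * u * (g' : G)⁻¹ := congrArg Subtype.val h
    by_contra hne
    have hne' : (g' : G)⁻¹ * g ≠ 1 := fun e => hne (Subtype.ext (inv_mul_eq_one.1 e).symm)
    have hgab := mul_mem (inv_mem g'.2) g.2
    have hc : (g' : G)⁻¹ * g * u = u * ((g' : G)⁻¹ * g) := by
      calc (g' : G)⁻¹ * g * u = (g' : G)⁻¹ * ((g : G) * u * (g : G)⁻¹) * g := by group
        _ = u * ((g' : G)⁻¹ * g) := by rw [h']; group
    have hfixb : ((g' : G)⁻¹ * g) • ((u : G) • b) = (u : G) • b := by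
      rw [smul_smul, hc, mul_smul, show ((g' : G)⁻¹ * g) • b = b from hgab.2]
    have hu' : (u : G) ≠ 1 := fun e => hu (Subtype.ext e)
    rcases zass_fix_two hZ hne' hab hgab.1 hgab.2 hfixb with e | e
    · exact hab (MulAction.injective (u : G) (e.trans (hHa u.2 : (u : G) • a = a).symm)).symm
    · exact hab (hHfix u u.2 hu' b e).symm
  have hcz : ∀ (g : E) (u : H), u ∈ Z → cj g u ∈ Z := by
    intro g u hu
    refine Subgroup.mem_center_iff.2 fun v => Subtype.ext ?_
    have h := congrArg Subtype.val (Subgroup.mem_center_iff.1 hu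
      ⟨_, hmem g⁻¹ v⟩)
    simp only [Subgroup.coe_mul, Subgroup.coe_inv, inv_inv] at h
    show (v : G) * ((g : G) * u * (g : G)⁻¹) = (g : G) * u * (g : G)⁻¹ * v
    calc (v : G) * ((g : G) * u * (g : G)⁻¹) = (g : G) * ((g : G)⁻¹ * v * g * u) * (g : G)⁻¹ := by group
      _ = (g : G) * ((u : G) * ((g : G)⁻¹ * v * g)) * (g : G)⁻¹ := by rw [h]
      _ = (g : G) * u * (g : G)⁻¹ * v := by group
  have hA : Nat.card E + 1 ≤ Nat.card Z := by
    let f : E ⊕ Unit → Z := Sum.elim (fun g => ⟨cj g z, hcz g z hzZ⟩) (fun _ => 1)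
    have hf : Function.Injective f := by
      rintro (g | ⟨⟩) (g' | ⟨⟩) h <;> simp only [f, Sum.elim_inl, Sum.elim_inr] at h
      · rw [hinj z hz1 (congrArg Subtype.val h)]
      · exact absurd (conj_eq_one_iff.1 (congrArg (fun t : Z => ((t : H) : G)) h))
          fun e => hz1 (Subtype.ext e)
      · exact absurd (conj_eq_one_iff.1 (congrArg (fun t : Z => ((t : H) : G)) h).symm)
          fun e => hz1 (Subtype.ext e)
      · rfl
    have := Nat.card_le_card_of_injective f hf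
    rwa [Nat.card_sum, show Nat.card Unit = 1 by simp] at this
  have hB : Nat.card E + Nat.card Z ≤ Nat.card H := by
    let f : E ⊕ Z → H := Sum.elim (fun g => cj g w) (fun t => t)
    have hnz : ∀ g : E, cj g w ∉ Z := fun g h => hw (by
      have h' := hcz g⁻¹ _ h
      rwa [show cj g⁻¹ (cj g w) = w from Subtype.ext (by simp [cj, mul_assoc])] at h')
    have hf : Function.Injective f := by
      rintro (g | t) (g' | t') h <;> simp only [f, Sum.elim_inl, Sum.elim_inr] at h
      · rw [hinj w hw1 h]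
      · exact absurd (h ▸ t'.2) (hnz g)
      · exact absurd (h.symm ▸ t.2) (hnz g')
      · rw [Subtype.ext h]
    have := Nat.card_le_card_of_injective f hf
    rwa [Nat.card_sum] at this
  obtain ⟨k, hk⟩ := Subgroup.card_subgroup_dvd_card Z
  rcases k with _ | _ | k
  · omega
  · omega
  · have := Nat.mul_le_mul_left (Nat.card Z) (show 2 ≤ k + 2 by omega)
    rw [← hk] at this
    omega

/-- The classification of simple Zassenhaus groups. -/
theorem classify (hZ : IsZassenhausGroup G Ω) :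
    (∃ (F : Type) (_ : Field F) (_ : Fintype F),
      Nonempty (G ≃* Matrix.ProjectiveSpecialLinearGroup (Fin 2) F)) ∨ Cfsg.IsSuzuki G :=
  (classify_kern hZ).imp_right fun ⟨_, _, _, _, K⟩ => K.isSuzuki

end CfsgLib.PGroups.SuzukiZass
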